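import Groth.Agent.Lib.OmegaPn27.Main
import Groth.Agent.Lib.ProjCohom.Twist

/-!
# Projective space over a ring
-/

set_option autoImplicit false
set_option maxHeartbeats 800000
set_option linter.style.haveILetI false
set_option backward.isDefEq.respectTransparency false

universe u

open CategoryTheory CategoryTheory.Limits AlgebraicGeometry Opposite TopologicalSpace

noncomputable section

namespace GrothLib.OmegaPn27

variable (n : ℕ)

theorem smoothOfRelativeDimension_toSpec (R : Type u) [CommRing R] :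
    SmoothOfRelativeDimension n (CohB1.ProjSpace.toSpec n R) :=
  smoothOfRelativeDimension n _ _ (ProjPic26.isPullback_chi n R)

theorem nonempty_pullback_chi_twist (R : Type u) [CommRing R] (d : ℤ) :
    Nonempty ((Scheme.Modules.pullback (ProjPic26.chi n R)).obj (Twist.twistProjSpace n ZU.{u} d) ≅
      Twist.twistProjSpace n R d) := by
  refine (Cube.clsMod_eq_iff (Ample.isInvertible_pullback _ (ProjPic26.isInvertible_twistProjSpace n ZU.{u} d))
    (ProjPic26.isInvertible_twistProjSpace n R d)).1 ?_
  rw [Cube.clsMod_pullback _ (ProjPic26.isInvertible_twistProjSpace n ZU.{u} d)]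
  exact ProjCohom.pull_chi_tw' n R d

/-- The canonical module of projective space over a ring. -/
theorem exists_canonical (R : Type u) [CommRing R] [QuasiSeparated (CohB1.ProjSpace.toSpec n R)] :
    ∃ L : (CohB1.ProjSpace n R).Modules, ExtPow.IsExtPow n (Omega.sheaf (CohB1.ProjSpace.toSpec n R)) L ∧
      Nonempty (L ≅ Twist.twistProjSpace n R (-((n : ℤ) + 1))) := by
  have hE := isFinLocFree_sheaf n _ _ (ProjPic26.isPullback_chi n R)
  obtain ⟨α⟩ := nonempty_wedge_iso n _ _ (ProjPic26.isPullback_chi n R)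
  obtain ⟨β⟩ := nonempty_pullback_chi_twist n R (-(n : ℤ) - 1)
  refine ⟨_, ExtPowX.isExtPow_wedge hE n, ?_⟩
  rw [show (-((n : ℤ) + 1)) = -(n : ℤ) - 1 by ring]
  exact ⟨α ≪≫ β⟩

theorem isExtPow_of_iso {X : Scheme.{u}} {E L L' : X.Modules} {i : ℕ} (h : ExtPow.IsExtPow i E L) (e : L ≅ L') :
    ExtPow.IsExtPow i E L' := by
  obtain ⟨φ, hφ⟩ := h
  let θ : ∀ U : X.affineOpens, Γ(L', U.1) ≃ₗ[Γ(X, U.1)] Γ(L, U.1) := fun U =>
    { toFun := fun x => e.inv.app U.1 x
      map_add' := map_add (e.inv.app U.1).hom
      map_smul' := fun c x => Scheme.Modules.Hom.app_smul e.inv c x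
      invFun := fun x => e.hom.app U.1 x
      left_inv := fun x => ConcreteCategory.congr_hom (congrArg (fun f => f.app U.1) e.inv_hom_id) x
      right_inv := fun x => ConcreteCategory.congr_hom (congrArg (fun f => f.app U.1) e.hom_inv_id) x }
  refine ⟨fun U => (θ U).trans (φ U), fun U V h v => ?_⟩
  refine Eq.trans ?_ (congrArg (fun x => e.hom.app V.1 x) (hφ U V h v))
  exact (ConcreteCategory.congr_hom (e.hom.mapPresheaf.naturality (homOfLE h).op) _).symm

/-- The twisting module is a canonical module. -/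
theorem isExtPow_twist (R : Type u) [CommRing R] [QuasiSeparated (CohB1.ProjSpace.toSpec n R)] :
    ExtPow.IsExtPow n (Omega.sheaf (CohB1.ProjSpace.toSpec n R)) (Twist.twistProjSpace n R (-((n : ℤ) + 1))) := by
  obtain ⟨L, hL, ⟨e⟩⟩ := exists_canonical n R
  exact isExtPow_of_iso hL e

end GrothLib.OmegaPn27
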