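import Groth.Agent.Lib.OmegaPn27.Koszul
import Groth.Agent.Lib.ProjCohom.Corollaries
import Groth.Agent.Lib.RegSheaf.PullTwist
import Groth.Agent.Lib.CurveRR.Dual
import Mathlib.Data.Nat.Choose.Cast

/-!
# Cohomology of the twisted sheaves of forms on projective space
-/

set_option autoImplicit false
set_option maxHeartbeats 800000
set_option linter.style.haveILetI false
set_option backward.isDefEq.respectTransparency false

universe u

open CategoryTheory CategoryTheory.Limits AlgebraicGeometry Opposite TopologicalSpace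
open GrothLib.ExtPowX (wedge)

noncomputable section

namespace GrothLib.OmegaPn27

section LES

variable {A : Type u} [CommRing A] {X : Scheme.{u}} [X.Over (Spec (CommRingCat.of A))]
  {S : ShortComplex X.Modules}

include A in
theorem subsingleton_X₁_zero (hS : S.ShortExact) (h : Subsingleton (Coh.HH X S.X₂ 0)) :
    Subsingleton (Coh.HH X S.X₁ 0) :=
  (Euler.hhMap_zero_injective (A := A) hS).subsingleton

include A in
theorem subsingleton_X₁_succ (hS : S.ShortExact) (q : ℕ) (h₃ : Subsingleton (Coh.HH X S.X₃ q))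
    (h₂ : Subsingleton (Coh.HH X S.X₂ (q + 1))) : Subsingleton (Coh.HH X S.X₁ (q + 1)) := by
  refine subsingleton_of_forall_eq 0 fun x => ?_
  obtain ⟨y, rfl⟩ := (Cohom.exact₁ (A := A) hS q x).1 (Subsingleton.elim _ _)
  rw [Subsingleton.elim y 0, map_zero]

include A in
theorem subsingleton_X₃ (hS : S.ShortExact) (q : ℕ) (h₂ : Subsingleton (Coh.HH X S.X₂ q))
    (h₁ : Subsingleton (Coh.HH X S.X₁ (q + 1))) : Subsingleton (Coh.HH X S.X₃ q) := by
  refine subsingleton_of_forall_eq 0 fun x => ?_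
  obtain ⟨y, rfl⟩ := (Cohom.exact₃ (A := A) hS q x).1 (Subsingleton.elim _ _)
  rw [Subsingleton.elim y 0, map_zero]

theorem nonempty_delta_equiv (hS : S.ShortExact) (q : ℕ) (h₂ : Subsingleton (Coh.HH X S.X₂ q))
    (h₂' : Subsingleton (Coh.HH X S.X₂ (q + 1))) :
    Nonempty (Coh.HH X S.X₃ q ≃ₗ[A] Coh.HH X S.X₁ (q + 1)) := by
  refine ⟨LinearEquiv.ofBijective (Cohom.hhDelta A hS q) ⟨(injective_iff_map_eq_zero _).2 fun x hx => ?_,
    fun y => (Cohom.exact₁ (A := A) hS q y).1 (Subsingleton.elim _ _)⟩⟩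
  obtain ⟨z, rfl⟩ := (Cohom.exact₃ (A := A) hS q x).1 hx
  rw [Subsingleton.elim z 0, map_zero]

/-- Cohomology of a sum of copies. -/
theorem nonempty_HH_sigma (M : X.Modules) (m q : ℕ) :
    Nonempty (Coh.HH X (∐ fun _ : Fin m => M) q ≃ₗ[A] (Fin m → Coh.HH X M q)) := by
  classical
  let π : Fin m → ((∐ fun _ : Fin m => M) ⟶ M) := fun j => Sigma.desc (fun i : Fin m => if i = j then 𝟙 M else 0)
  have hid : (∑ j : Fin m, π j ≫ Sigma.ι (fun _ : Fin m => M) j) = 𝟙 _ := by
    refine Sigma.hom_ext _ _ fun i => ?_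
    rw [Preadditive.comp_sum, Category.comp_id, Finset.sum_eq_single i]
    · simp [π]
    · intro j _ hj
      simp [π, Ne.symm hj]
    · simp
  let F : Coh.HH X (∐ fun _ : Fin m => M) q →ₗ[A] (Fin m → Coh.HH X M q) :=
    LinearMap.pi fun j => Cohom.hhMap A (π j) q
  refine ⟨LinearEquiv.ofBijective F ⟨(injective_iff_map_eq_zero _).2 fun x hx => ?_, fun v => ?_⟩⟩
  · rw [← Euler.hhMap_id (A := A) _ q x, ← hid, CurveRR.hhMap_sum]
    refine Finset.sum_eq_zero fun j _ => ?_
    rw [Euler.hhMap_comp, show Cohom.hhMap A (π j) q x = 0 from congrFun hx j, map_zero]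
  · refine ⟨∑ i, Cohom.hhMap A (Sigma.ι (fun _ : Fin m => M) i) q (v i), funext fun j => ?_⟩
    show Cohom.hhMap A (π j) q _ = v j
    rw [map_sum, Finset.sum_eq_single j (fun i _ hi => ?_) (by simp)]
    · rw [← Euler.hhMap_comp, show Sigma.ι (fun _ : Fin m => M) j ≫ π j = 𝟙 M by simp [π], Euler.hhMap_id]
    · rw [← Euler.hhMap_comp, show Sigma.ι (fun _ : Fin m => M) i ≫ π j = 0 by simp [π, hi],
        CurveRR.hhMap_zero_hom]

end LES

variable (n : ℕ) (A : Type u) [CommRing A]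

theorem nonempty_Wt_zero_left [QuasiSeparated (CohB1.ProjSpace.toSpec n A)] (d : ℤ) :
    Nonempty (Wt n A 0 d ≅ OD n A d) := by
  obtain ⟨a⟩ := nonempty_wedge_zero (X := CohB1.ProjSpace n A) (isFinLocFree_omegaP n A)
  exact ⟨Ample.LineData.tensorModMapIso a (Iso.refl (OD n A d)) ≪≫ OX.tensorUnitLeftIso (OD n A d)⟩

theorem nonempty_Wt_zero_right (p : ℕ) : Nonempty (wedge (OmegaP n A) p ≅ Wt n A p 0) := by
  obtain ⟨a⟩ := GrTilde.nonempty_structureModule_iso_twist_zero (CohB1.polyGrading n A)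
  exact ⟨(OX.tensorUnitLeftIso (wedge (OmegaP n A) p)).symm ≪≫
    GrTilde.tensorModComm (X := CohB1.ProjSpace n A) _ _ ≪≫ Ample.LineData.tensorModMapIso (Iso.refl _) a⟩

variable [QuasiSeparated (CohB1.ProjSpace.toSpec n A)]

theorem isQuasicoherent_Wt (p : ℕ) (d : ℤ) : (Wt n A p d).IsQuasicoherent :=
  (Euler.isCoh_of_isFinLocFree (ModelK.isFinLocFree_tensorMod (A := wedge (OmegaP n A) p) (B := OD n A d)
    (ExtPowX.isFinLocFree_wedge (isFinLocFree_omegaP n A) p)
    (Euler.isFinLocFree_of_isInvertible (ProjPic26.isInvertible_twistProjSpace n A d)))).1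

theorem subsingleton_Wt_of_gt (p : ℕ) (d : ℤ) {q : ℕ} (hq : n < q) :
    Subsingleton (Coh.HH (CohB1.ProjSpace n A) (Wt n A p d) q) :=
  haveI := isQuasicoherent_Wt n A p d
  RegSheaf.subsingleton_HH_ring_of_lt _ hq

theorem subsingleton_Wt_of_isZero {p : ℕ} (hp : n < p) (d : ℤ) (q : ℕ) :
    Subsingleton (Coh.HH (CohB1.ProjSpace n A) (Wt n A p d) q) := by
  refine ⟨fun a b => ?_⟩
  have hz := (IsZero.iff_id_eq_zero _).1 (isZero_Wt n A hp d)
  rw [← Euler.hhMap_id (A := A) _ q a, ← Euler.hhMap_id (A := A) _ q b, hz, CurveRR.hhMap_zero_hom,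
    CurveRR.hhMap_zero_hom]

/-- The sum in the middle of the twisted sequence. -/
abbrev Mid (p : ℕ) (d : ℤ) : (CohB1.ProjSpace n A).Modules :=
  ∐ fun _ : Fin ((n + 1).choose (p + 1)) => OD n A (d - ((p + 1 : ℕ) : ℤ))

omit [QuasiSeparated (CohB1.ProjSpace.toSpec n A)] in
theorem subsingleton_Mid (p : ℕ) (d : ℤ) {q : ℕ} (h₀ : ¬ (q = 0 ∧ ((p + 1 : ℕ) : ℤ) ≤ d))
    (hn : ¬ (q = n ∧ d - ((p + 1 : ℕ) : ℤ) ≤ -((n : ℤ) + 1))) :
    Subsingleton (Coh.HH (CohB1.ProjSpace n A) (Mid n A p d) q) :=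
  CMReg.subsingleton_HH_sigma _ fun _ =>
    ProjCohom.subsingleton_HH (fun h => h₀ ⟨h.1, by omega⟩) hn

/-- The twisted sequence, with the sum in the middle. -/
theorem exists_seq' (p : ℕ) (d : ℤ) :
    ∃ T : ShortComplex (CohB1.ProjSpace n A).Modules, T.ShortExact ∧ Nonempty (T.X₁ ≅ Wt n A (p + 1) d) ∧
      Nonempty (T.X₂ ≅ Mid n A p d) ∧ Nonempty (T.X₃ ≅ Wt n A p d) :=
  exists_seq n A p d

theorem subsingleton_iso {M N : (CohB1.ProjSpace n A).Modules} (e : M ≅ N) {q : ℕ}
    (h : Subsingleton (Coh.HH (CohB1.ProjSpace n A) N q)) : Subsingleton (Coh.HH (CohB1.ProjSpace n A) M q) :=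
  (Euler.hhEquiv (A := A) e q).toEquiv.subsingleton

/-- Positive twists have no higher cohomology. -/
theorem subsingleton_pos {d : ℤ} (hd : 0 < d) (p : ℕ) {q : ℕ} (hq : 0 < q) :
    Subsingleton (Coh.HH (CohB1.ProjSpace n A) (Wt n A p d) q) := by
  induction hm : n + 1 - p generalizing p q with
  | zero => exact subsingleton_Wt_of_isZero n A (by omega) d q
  | succ m ih =>
    obtain ⟨T, hT, ⟨a₁⟩, ⟨a₂⟩, ⟨a₃⟩⟩ := exists_seq' n A p d
    refine subsingleton_iso n A a₃.symm (subsingleton_X₃ (A := A) hT q ?_ ?_)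
    · exact subsingleton_iso n A a₂ (subsingleton_Mid n A p d (fun h => by omega) (fun h => by omega))
    · exact subsingleton_iso n A a₁ (ih (p + 1) (by omega) (by omega))

/-- Small positive twists have no sections. -/
theorem subsingleton_pos_zero (hn : 1 ≤ n) {d : ℤ} (hd : 0 < d) {p : ℕ} (hp : d ≤ p) :
    Subsingleton (Coh.HH (CohB1.ProjSpace n A) (Wt n A p d) 0) := by
  obtain ⟨T, hT, ⟨a₁⟩, ⟨a₂⟩, ⟨a₃⟩⟩ := exists_seq' n A p d
  exact subsingleton_iso n A a₃.symm (subsingleton_X₃ (A := A) hT 0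
    (subsingleton_iso n A a₂ (subsingleton_Mid n A p d (fun h => by omega) (fun h => by omega)))
    (subsingleton_iso n A a₁ (subsingleton_pos n A hd (p + 1) Nat.one_pos)))

/-- Negative twists have cohomology in the top degree only. -/
theorem subsingleton_neg {d : ℤ} (hd : d < 0) (p : ℕ) :
    ∀ q : ℕ, q < n ∨ (q = n ∧ (p : ℤ) - n ≤ d) → Subsingleton (Coh.HH (CohB1.ProjSpace n A) (Wt n A p d) q) := by
  induction p with
  | zero =>
    intro q hq
    obtain ⟨a⟩ := nonempty_Wt_zero_left n A d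
    exact subsingleton_iso n A a (ProjCohom.subsingleton_HH (fun h => by omega) (fun h => by omega))
  | succ p ih =>
    intro q hq
    obtain ⟨T, hT, ⟨a₁⟩, ⟨a₂⟩, ⟨a₃⟩⟩ := exists_seq' n A p d
    refine subsingleton_iso n A a₁.symm ?_
    rcases q with _ | q
    · exact subsingleton_X₁_zero (A := A) hT
        (subsingleton_iso n A a₂ (subsingleton_Mid n A p d (fun h => by omega) (fun h => by omega)))
    · exact subsingleton_X₁_succ (A := A) hT q (subsingleton_iso n A a₃ (ih q (Or.inl (by omega))))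
        (subsingleton_iso n A a₂ (subsingleton_Mid n A p d (fun h => by omega) (fun h => by omega)))

/-- The sheaves of forms have cohomology on the diagonal only. -/
theorem subsingleton_untwisted : ∀ (p q : ℕ), p ≠ q → Subsingleton (Coh.HH (CohB1.ProjSpace n A) (Wt n A p 0) q) := by
  intro p
  induction p with
  | zero =>
    intro q hq
    obtain ⟨a⟩ := nonempty_Wt_zero_left n A 0
    exact subsingleton_iso n A a (ProjCohom.subsingleton_HH (fun h => by omega) (fun h => by omega))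
  | succ p ih =>
    intro q hq
    rcases Nat.lt_or_ge n (p + 1) with h | h
    · exact subsingleton_Wt_of_isZero n A h 0 q
    obtain ⟨T, hT, ⟨a₁⟩, ⟨a₂⟩, ⟨a₃⟩⟩ := exists_seq' n A p 0
    refine subsingleton_iso n A a₁.symm ?_
    rcases q with _ | q
    · exact subsingleton_X₁_zero (A := A) hT
        (subsingleton_iso n A a₂ (subsingleton_Mid n A p 0 (fun h => by omega) (fun h => by omega)))
    · exact subsingleton_X₁_succ (A := A) hT q (subsingleton_iso n A a₃ (ih q (by omega)))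
        (subsingleton_iso n A a₂ (subsingleton_Mid n A p 0 (fun h => by omega) (fun h => by omega)))

/-- The diagonal cohomology of the sheaves of forms. -/
theorem nonempty_untwisted : ∀ p : ℕ, p ≤ n → Nonempty (Coh.HH (CohB1.ProjSpace n A) (Wt n A p 0) p ≃ₗ[A] A) := by
  intro p
  induction p with
  | zero =>
    intro _
    classical
    obtain ⟨a⟩ := nonempty_Wt_zero_left n A 0
    obtain ⟨e⟩ : Nonempty (Coh.HH (CohB1.ProjSpace n A) (OD n A 0) 0 ≃ₗ[A]
        MvPolynomial.homogeneousSubmodule (Fin (n + 1)) A 0) := ProjCohom.nonempty_HH_zero (n := n) (R := A) 0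
    letI : Unique {P : Fin (n + 1) → ℕ // ∑ i, P i = 0} :=
      { default := ⟨fun _ => 0, by simp⟩
        uniq := fun P => Subtype.ext (funext fun i => Finset.sum_eq_zero_iff.1 P.2 i (Finset.mem_univ i)) }
    exact ⟨Euler.hhEquiv (A := A) a 0 ≪≫ₗ e ≪≫ₗ ProjCohom.formsEquiv (n := n) (R := A) 0 ≪≫ₗ
      LinearEquiv.funUnique _ A A⟩
  | succ p ih =>
    intro hp
    obtain ⟨T, hT, ⟨a₁⟩, ⟨a₂⟩, ⟨a₃⟩⟩ := exists_seq' n A p 0
    obtain ⟨e⟩ := ih (by omega)
    obtain ⟨δ⟩ := nonempty_delta_equiv (A := A) hT p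
      (subsingleton_iso n A a₂ (subsingleton_Mid n A p 0 (fun h => by omega) (fun h => by omega)))
      (subsingleton_iso n A a₂ (subsingleton_Mid n A p 0 (fun h => by omega) (fun h => by omega)))
    exact ⟨(Euler.hhEquiv (A := A) a₁ (p + 1)).symm ≪≫ₗ δ.symm ≪≫ₗ Euler.hhEquiv (A := A) a₃ p ≪≫ₗ e⟩

theorem choose_identity (p e s : ℕ) :
    (p + s + 2).choose (p + 1) * (e + 1 + (p + 1 + s)).choose (p + 1 + s) =
      (p + 2 + e + s).choose (p + 2 + e) * (p + 1 + e).choose (p + 1) +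
        (p + 2 + e + (s + 1)).choose (p + 2 + e) * (p + (1 + e)).choose p := by
  suffices h : (((p + s + 2).choose (p + 1) * (e + 1 + (p + 1 + s)).choose (p + 1 + s) : ℕ) : ℚ) =
      (((p + 2 + e + s).choose (p + 2 + e) * (p + 1 + e).choose (p + 1) +
        (p + 2 + e + (s + 1)).choose (p + 2 + e) * (p + (1 + e)).choose p : ℕ) : ℚ) by exact_mod_cast h
  push_cast
  rw [show p + s + 2 = p + 1 + (s + 1) by omega, Nat.cast_add_choose, Nat.cast_add_choose,
    show e + 1 + (p + 1 + s) = p + 1 + s + (e + 1) by omega, Nat.cast_add_choose, Nat.cast_add_choose,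
    Nat.cast_add_choose, Nat.cast_add_choose]
  have f1 : (p + 2 + e + (s + 1)).factorial = (p + 2 + e + s + 1) * (p + 2 + e + s).factorial :=
    Nat.factorial_succ (p + 2 + e + s)
  have f2 : (p + 1 + s + (e + 1)).factorial = (p + 2 + e + s).factorial := by congr 1; omega
  have f3 : (p + 1 + (s + 1)).factorial = (p + s + 2) * (p + 1 + s).factorial := by
    rw [show p + 1 + (s + 1) = p + 1 + s + 1 by omega, Nat.factorial_succ]
    congr 1
    omega
  have f4 : (s + 1).factorial = (s + 1) * s.factorial := Nat.factorial_succ s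
  have f5 : (1 + e).factorial = (e + 1) * e.factorial := by rw [Nat.add_comm 1 e, Nat.factorial_succ]
  have f5' : (e + 1).factorial = (e + 1) * e.factorial := Nat.factorial_succ e
  have f6 : (p + 2 + e).factorial = (p + 2 + e) * (p + 1 + e).factorial := by
    rw [show p + 2 + e = p + 1 + e + 1 by omega, Nat.factorial_succ]
  have f7 : (p + (1 + e)).factorial = (p + 1 + e).factorial := by congr 1; omega
  have f8 : (p + 1).factorial = (p + 1) * p.factorial := Nat.factorial_succ p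
  rw [f1, f2, f3, f4, f5, f5', f6, f7, f8]
  have g1 : ((p + 1 + s).factorial : ℚ) ≠ 0 := Nat.cast_ne_zero.2 (Nat.factorial_ne_zero _)
  have g2 : ((p + 1 + e).factorial : ℚ) ≠ 0 := Nat.cast_ne_zero.2 (Nat.factorial_ne_zero _)
  push_cast
  field_simp
  ring

end GrothLib.OmegaPn27
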