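import Groth.Agent.Lib.OmegaPn27.Euler
import Groth.Agent.Lib.OmegaPn27.Proj
import Groth.Agent.Lib.ExtPowX.SesSheaf
import Groth.Agent.Lib.ModelK.Exists
import Groth.Agent.Lib.ModelK.PBT
import Groth.Agent.Lib.CMReg.Free
import Groth.Agent.S15827

/-!
# The exterior powers of the Euler sequence
-/

set_option autoImplicit false
set_option maxHeartbeats 1600000
set_option linter.style.haveILetI false
set_option backward.isDefEq.respectTransparency false

universe u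

open CategoryTheory CategoryTheory.Limits AlgebraicGeometry Opposite TopologicalSpace
open GrothLib.InvExt (mres fres)
open GrothLib.FinCov (IsFrame)
open GrothLib.ExtPowX (wedge)

noncomputable section

namespace GrothLib.OmegaPn27

section General

variable {X : Scheme.{u}}

theorem nonempty_iso_of_frames {M N : X.Modules} {m : ℕ} {e : Fin m → Γ(M, ⊤)} {f : Fin m → Γ(N, ⊤)}
    (he : IsFrame M ⊤ e) (hf : IsFrame N ⊤ f) : Nonempty (M ≅ N) := by
  obtain ⟨φ, -⟩ := AffHom.exists_iso (M := M) (N := N)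
    (fun U => (he.basis U.1 le_top).equiv (hf.basis U.1 le_top) (Equiv.refl _)) fun U V h x => by
      obtain ⟨c, rfl⟩ : ∃ c : Fin m → Γ(X, U.1), ∑ i, c i • he.basis U.1 le_top i = x :=
        ⟨_, (he.basis U.1 le_top).sum_repr x⟩
      show mres N h _ = ((he.basis V.1 le_top).equiv (hf.basis V.1 le_top) (Equiv.refl _)) (mres M h _)
      rw [map_sum, mres_sum, mres_sum, map_sum]
      refine Finset.sum_congr rfl fun i _ => ?_
      have hM : mres M h (he.basis U.1 le_top i) = he.basis V.1 le_top i := by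
        rw [IsFrame.basis_apply, IsFrame.basis_apply]
        exact InvExt.mres_mres M le_top h (e i)
      have hN : mres N h (hf.basis U.1 le_top i) = hf.basis V.1 le_top i := by
        rw [IsFrame.basis_apply, IsFrame.basis_apply]
        exact InvExt.mres_mres N le_top h (f i)
      rw [map_smul, InvExt.mres_smul, InvExt.mres_smul, map_smul, Module.Basis.equiv_apply, Equiv.refl_apply, hM,
        hN, Module.Basis.equiv_apply, Equiv.refl_apply]
  exact ⟨φ⟩

theorem nonempty_wedge_free (r p : ℕ) :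
    Nonempty (wedge (FlatMod.freeMod X r) p ≅ FlatMod.freeMod X (r.choose p)) := by
  obtain ⟨e, he⟩ := exists_frame_free X r
  obtain ⟨f, hf⟩ := exists_frame_free X (r.choose p)
  have hw := ExtPowX.isFrame_wedge he p
  have hcard : Fintype.card (Set.powersetCard (Fin r) p) = r.choose p := by
    rw [← Nat.card_eq_fintype_card, Set.powersetCard.card, Nat.card_fin]
  revert f hf
  rw [← hcard]
  exact fun f hf => nonempty_iso_of_frames hw hf

theorem isFinLocFree_free (r : ℕ) : FlatMod.IsFinLocFree (FlatMod.freeMod X r) :=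
  FinCov.isFinLocFree_of_rank fun x =>
    ⟨⊤, trivial, ⟨(Scheme.Modules.restrictFunctorIsoPullback (⊤ : X.Opens).ι).app _ ≪≫ OX.pullFreeModIso _ _⟩⟩

theorem nonempty_wedge_of_iso_free {E : X.Modules} {r : ℕ} (e : E ≅ FlatMod.freeMod X r) (p : ℕ) :
    Nonempty (wedge E p ≅ FlatMod.freeMod X (r.choose p)) := by
  obtain ⟨a⟩ := ExtPowX.nonempty_iso (ExtPowX.isExtPow_wedge (DCoh.isFinLocFree_of_iso e.symm (isFinLocFree_free r)) p)
    (ExtPowX.isExtPow_wedge (isFinLocFree_free r) p) e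
  obtain ⟨b⟩ := nonempty_wedge_free (X := X) r p
  exact ⟨a ≪≫ b⟩

/-- The structure sheaf is free of rank one. -/
def freeOneIso : FlatMod.freeMod X 1 ≅ Coh.structureModule X :=
  coproductUniqueIso fun _ : Fin 1 => Coh.structureModule X

theorem nonempty_wedge_zero {E : X.Modules} (hE : FlatMod.IsFinLocFree E) :
    Nonempty (wedge E 0 ≅ Coh.structureModule X) :=
  ExtPowX.nonempty_iso (ExtPowX.isExtPow_wedge hE 0) (ModelK.isExtPow_zero E) (Iso.refl E)

/-- The exterior powers of an extension of the structure sheaf. -/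
theorem exists_koszul {S : ShortComplex X.Modules} (hS : S.ShortExact) (h₁ : FlatMod.IsFinLocFree S.X₁)
    (h₂ : FlatMod.IsFinLocFree S.X₂) (e₃ : S.X₃ ≅ Coh.structureModule X) (p : ℕ) :
    ∃ T : ShortComplex X.Modules, T.ShortExact ∧ Nonempty (T.X₁ ≅ wedge S.X₁ (p + 1)) ∧
      Nonempty (T.X₂ ≅ wedge S.X₂ (p + 1)) ∧ Nonempty (T.X₃ ≅ wedge S.X₁ p) := by
  have h₃ : FlatMod.IsFinLocFree S.X₃ :=
    DCoh.isFinLocFree_of_iso e₃.symm (Euler.isFinLocFree_of_isInvertible Euler.isInvertible_structure)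
  let e : S.X₃ ≅ FlatMod.freeMod X 1 := e₃ ≪≫ freeOneIso.symm
  have hunit : ∀ (j l : ℕ), l ≤ 1 → Nonempty (ExtPowX.Ses.gr S j l ≅ wedge S.X₁ j) := fun j l hl => by
    obtain ⟨a⟩ := nonempty_wedge_of_iso_free e l
    rw [show Nat.choose 1 l = 1 by rcases Nat.le_one_iff_eq_zero_or_eq_one.1 hl with rfl | rfl <;> rfl] at a
    exact ⟨((DCoh.tensorBi (X := X)).obj (wedge S.X₁ j)).mapIso (a ≪≫ freeOneIso) ≪≫ Euler.tFUnitIso _⟩
  have hzero : ∀ (j l : ℕ), 2 ≤ l → IsZero (ExtPowX.Ses.gr S j l) := fun j l hl => by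
    obtain ⟨a⟩ := nonempty_wedge_of_iso_free e l
    rw [Nat.choose_eq_zero_of_lt (by omega : 1 < l)] at a
    have hz : IsZero (wedge S.X₃ l) := (Euler.isZero_freeMod_zero X).of_iso a
    have hz' : IsZero ((Euler.tF (wedge S.X₁ j)).obj (wedge S.X₃ l)) := (Euler.tF (wedge S.X₁ j)).map_isZero hz
    exact IsZero.of_iso hz' (GrTilde.tensorModComm (X := X) _ _)
  have htop : Nonempty (ExtPowX.Ses.F S (p + 1) (p + 1) ≅ wedge S.X₁ (p + 1)) := by
    have hs := ExtPowX.Ses.shortExact_step S hS h₁ h₂ h₃ (j := p + 1) (l := 0) (n := p + 1) rfl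
    haveI : IsIso (ExtPowX.Ses.sig S hS h₁ h₃ (j := p + 1) (l := 0) (n := p + 1) rfl) :=
      hs.isIso_g_iff.2 (ExtPowX.Ses.isZero_F_of_lt S (p + 1) (Nat.lt_succ_self (p + 1)))
    exact ⟨asIso (ExtPowX.Ses.sig S hS h₁ h₃ (j := p + 1) (l := 0) (n := p + 1) rfl) ≪≫
      (hunit (p + 1) 0 zero_le_one).some⟩
  have hbot : ∀ j, j ≤ p → Nonempty (ExtPowX.Ses.F S (p + 1) j ≅ wedge S.X₂ (p + 1)) := by
    intro j
    induction j with
    | zero =>
      intro _
      haveI := ExtPowX.Ses.isIso_toWedge S (p + 1)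
      exact ⟨asIso (ExtPowX.Ses.toWedge S (p + 1))⟩
    | succ j ih =>
      intro hj
      have hjl : j + (p + 1 - j) = p + 1 := by omega
      have hs := ExtPowX.Ses.shortExact_step S hS h₁ h₂ h₃ (j := j) (l := p + 1 - j) (n := p + 1) hjl
      haveI : IsIso (ExtPowX.Ses.incl S (p + 1) j) := hs.isIso_f_iff.2 (hzero _ _ (by omega))
      exact ⟨asIso (ExtPowX.Ses.incl S (p + 1) j) ≪≫ (ih (by omega)).some⟩
  exact ⟨_, ExtPowX.Ses.shortExact_step S hS h₁ h₂ h₃ (j := p) (l := 1) (n := p + 1) rfl, htop, hbot p le_rfl,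
    hunit p 1 le_rfl⟩

theorem nonempty_wedge_tensor_free {N : X.Modules} (hN : PicF.IsInvertible N) (r p : ℕ) :
    Nonempty (wedge (CohB1.tensorMod (FlatMod.freeMod X r) N) p ≅
      ∐ fun _ : Fin (r.choose p) => CohB1.tensorPow N p) := by
  have hEE : FlatMod.IsFinLocFree (CohB1.tensorMod (FlatMod.freeMod X r) N) :=
    OX.isFinLocFree_tensor (isFinLocFree_free r) (Euler.isFinLocFree_of_isInvertible hN)
  obtain ⟨b₁⟩ := Groth.Agent.S15827.result (FlatMod.freeMod X r) N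
    (isFinLocFree_free r) (Euler.isFinLocFreeOfRank_one' hN) p _ _
    (ExtPowX.isExtPow_wedge hEE p) (ExtPowX.isExtPow_wedge (isFinLocFree_free r) p)
  obtain ⟨b₂⟩ := nonempty_wedge_free (X := X) r p
  exact ⟨b₁ ≪≫ Ample.LineData.tensorModMapIso b₂ (Iso.refl _) ≪≫
    CMReg.tensorSigmaIso (fun _ : Fin (r.choose p) => Coh.structureModule X) _ ≪≫
    Sigma.mapIso fun _ => OX.tensorUnitLeftIso _⟩

theorem nonempty_sum_tensor_of {W B C D L : X.Modules} {m : ℕ} (b₁ : W ≅ ∐ fun _ : Fin m => B) (b₃ : B ≅ C)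
    (b₄ : CohB1.tensorMod C L ≅ D) : Nonempty (CohB1.tensorMod W L ≅ ∐ fun _ : Fin m => D) :=
  ⟨Ample.LineData.tensorModMapIso (b₁ ≪≫ Sigma.mapIso fun _ => b₃) (Iso.refl L) ≪≫
    CMReg.tensorSigmaIso (fun _ : Fin m => C) L ≪≫ Sigma.mapIso fun _ => b₄⟩

theorem isZero_wedge_of_rank_lt {E : X.Modules} {r : ℕ} (hE : FlatMod.IsFinLocFreeOfRank r E) {p : ℕ} (hp : r < p) :
    IsZero (wedge E p) := by
  have hcard : Fintype.card (Set.powersetCard (Fin r) p) = 0 := by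
    rw [← Nat.card_eq_fintype_card, Set.powersetCard.card, Nat.card_fin, Nat.choose_eq_zero_of_lt hp]
  refine ModelK.isZero_of_rank_zero' fun x => ?_
  obtain ⟨U, e, hx, he⟩ := FinCov.exists_frame_nhd_of_rank hE x
  exact ⟨U, hx, hcard ▸ FinCov.exists_iso_of_frame (ExtPowX.isFrame_wedge he p)⟩

theorem exists_seq_tensor {M₁ M₂ M₃ L D : X.Modules} (hL : FlatMod.IsFinLocFree L)
    (h : ∃ T : ShortComplex X.Modules, T.ShortExact ∧ Nonempty (T.X₁ ≅ M₁) ∧ Nonempty (T.X₂ ≅ M₂) ∧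
      Nonempty (T.X₃ ≅ M₃)) (φ : CohB1.tensorMod M₂ L ≅ D) :
    ∃ T : ShortComplex X.Modules, T.ShortExact ∧ Nonempty (T.X₁ ≅ CohB1.tensorMod M₁ L) ∧ Nonempty (T.X₂ ≅ D) ∧
      Nonempty (T.X₃ ≅ CohB1.tensorMod M₃ L) := by
  obtain ⟨T, hT, ⟨a₁⟩, ⟨a₂⟩, ⟨a₃⟩⟩ := h
  refine ⟨T.map ((DCoh.tensorBi (X := X)).flip.obj L),
    OX.tensor_map_shortExact (OX.flat_of_isFinLocFree hL) hT,
    ?_, ?_, ?_⟩
  · exact (⟨Ample.LineData.tensorModMapIso a₁ (Iso.refl L)⟩ : Nonempty (CohB1.tensorMod T.X₁ L ≅ CohB1.tensorMod M₁ L))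
  · exact (⟨Ample.LineData.tensorModMapIso a₂ (Iso.refl L) ≪≫ φ⟩ : Nonempty (CohB1.tensorMod T.X₂ L ≅ D))
  · exact (⟨Ample.LineData.tensorModMapIso a₃ (Iso.refl L)⟩ : Nonempty (CohB1.tensorMod T.X₃ L ≅ CohB1.tensorMod M₃ L))

theorem isZero_tensorMod {W L : X.Modules} (h : IsZero W) : IsZero (CohB1.tensorMod W L) := by
  have hz : IsZero ((Euler.tF L).obj W) := (Euler.tF L).map_isZero h
  exact hz

theorem exists_seq_of_euler {Ω E L D : X.Modules} (hΩ : FlatMod.IsFinLocFree Ω) (hE : FlatMod.IsFinLocFree E)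
    (hL : FlatMod.IsFinLocFree L)
    (h : ∃ (a : Ω ⟶ E) (b : E ⟶ Coh.structureModule X) (w : a ≫ b = 0), (ShortComplex.mk a b w).ShortExact)
    (p : ℕ) (φ : CohB1.tensorMod (wedge E (p + 1)) L ≅ D) :
    ∃ T : ShortComplex X.Modules, T.ShortExact ∧ Nonempty (T.X₁ ≅ CohB1.tensorMod (wedge Ω (p + 1)) L) ∧
      Nonempty (T.X₂ ≅ D) ∧ Nonempty (T.X₃ ≅ CohB1.tensorMod (wedge Ω p) L) := by
  obtain ⟨a, b, w, hS⟩ := h
  exact exists_seq_tensor hL (exists_koszul hS hΩ hE (Iso.refl _) p) φ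

end General

variable (n : ℕ) (A : Type u) [CommRing A]

/-- The relative differentials of projective space. -/
abbrev OmegaP : (CohB1.ProjSpace n A).Modules := Omega.sheaf (CohB1.ProjSpace.toSpec n A)

/-- The twisting sheaves. -/
abbrev OD (d : ℤ) : (CohB1.ProjSpace n A).Modules := Twist.twistProjSpace n A d

/-- The twisted sheaves of forms. -/
abbrev Wt (p : ℕ) (d : ℤ) : (CohB1.ProjSpace n A).Modules :=
  CohB1.tensorMod (wedge (OmegaP n A) p) (OD n A d)

theorem nonempty_N1 : Nonempty (N1 n (ProjPic26.chi n A) ≅ OD n A (-1)) := by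
  let P := Ample.ProjMap.pcoc n ZU.{u}
  obtain ⟨φ⟩ := GrTilde.nonempty_inv_twist_iso (CohB1.polyGrading n ZU.{u})
    (fun i : ULift.{u} (Fin (n + 1)) => MvPolynomial.X i.down)
    (fun i => Ample.ProjMap.X_mem i.down) P.cover 1
  obtain ⟨ψ⟩ := P.inv.nonempty_pullback_iso (ProjPic26.chi n A) (n := 1) φ.symm
  obtain ⟨β⟩ := nonempty_pullback_chi_twist n A (-1)
  exact ⟨ψ.symm ≪≫ β⟩

theorem nonempty_tensorPow_N1 (p : ℕ) :
    Nonempty (CohB1.tensorPow (N1 n (ProjPic26.chi n A)) p ≅ OD n A (-(p : ℤ))) := by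
  have hN : PicF.IsInvertible (N1 n (ProjPic26.chi n A)) := (cocNeg n (ProjPic26.chi n A)).isInvertible_twist 1
  refine (Cube.clsMod_eq_iff (Ample.isInvertible_tensorPow hN p) (ProjPic26.isInvertible_twistProjSpace n A _)).1 ?_
  rw [Cube.clsMod_tensorPow hN, (Cube.clsMod_eq_iff hN (ProjPic26.isInvertible_twistProjSpace n A (-1))).2
    (nonempty_N1 n A)]
  show ProjPic26.tw n A (-1) ^ p = ProjPic26.tw n A (-(p : ℤ))
  rw [ProjPic26.tw_eq_zpow n A (-1), ProjPic26.tw_eq_zpow n A (-(p : ℤ)), ← zpow_natCast, ← zpow_mul, neg_one_mul]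

theorem nonempty_twist_add (a b : ℤ) : Nonempty (CohB1.tensorMod (OD n A a) (OD n A b) ≅ OD n A (a + b)) :=
  GrTilde.nonempty_twist_tensor_twist (ProjPic26.h1_polyGrading n A) a b

variable [QuasiSeparated (CohB1.ProjSpace.toSpec n A)]

theorem isFinLocFree_omegaP : FlatMod.IsFinLocFree (OmegaP n A) :=
  isFinLocFree_sheaf n _ _ (ProjPic26.isPullback_chi n A)

theorem nonempty_mid (p : ℕ) (d : ℤ) :
    Nonempty (CohB1.tensorMod (wedge (EE n (ProjPic26.chi n A)) (p + 1)) (OD n A d) ≅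
      ∐ fun _ : Fin ((n + 1).choose (p + 1)) => OD n A (d - ((p + 1 : ℕ) : ℤ))) := by
  have hN : PicF.IsInvertible (N1 n (ProjPic26.chi n A)) := (cocNeg n (ProjPic26.chi n A)).isInvertible_twist 1
  obtain ⟨b₁⟩ := nonempty_wedge_tensor_free (X := CohB1.ProjSpace n A) hN (n + 1) (p + 1)
  obtain ⟨b₃⟩ := nonempty_tensorPow_N1 n A (p + 1)
  obtain ⟨b₄⟩ := nonempty_twist_add n A (-((p + 1 : ℕ) : ℤ)) d
  rw [show -((p + 1 : ℕ) : ℤ) + d = d - ((p + 1 : ℕ) : ℤ) by ring] at b₄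
  exact nonempty_sum_tensor_of b₁ b₃ b₄

/-- The twisted exterior powers of the Euler sequence. -/
theorem exists_seq (p : ℕ) (d : ℤ) :
    ∃ T : ShortComplex (CohB1.ProjSpace n A).Modules, T.ShortExact ∧ Nonempty (T.X₁ ≅ Wt n A (p + 1) d) ∧
      Nonempty (T.X₂ ≅ ∐ fun _ : Fin ((n + 1).choose (p + 1)) => OD n A (d - ((p + 1 : ℕ) : ℤ))) ∧
      Nonempty (T.X₃ ≅ Wt n A p d) := by
  have hH := ProjPic26.isPullback_chi n A
  have hN : PicF.IsInvertible (N1 n (ProjPic26.chi n A)) := (cocNeg n (ProjPic26.chi n A)).isInvertible_twist 1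
  have hEE : FlatMod.IsFinLocFree (EE n (ProjPic26.chi n A)) :=
    ModelK.isFinLocFree_tensorMod (A := FlatMod.freeMod _ (n + 1)) (B := N1 n (ProjPic26.chi n A))
      (isFinLocFree_free (n + 1)) (Euler.isFinLocFree_of_isInvertible hN)
  have hL : FlatMod.IsFinLocFree (OD n A d) :=
    Euler.isFinLocFree_of_isInvertible (ProjPic26.isInvertible_twistProjSpace n A d)
  have heu := exists_euler n (CohB1.ProjSpace.toSpec n A) (ProjPic26.chi n A) hH
  obtain ⟨φ⟩ := nonempty_mid n A p d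
  exact exists_seq_of_euler (isFinLocFree_omegaP n A) hEE hL heu p φ

theorem isFinLocFreeOfRank_omegaP : FlatMod.IsFinLocFreeOfRank n (OmegaP n A) := fun x => by
  obtain ⟨i, V, hV, hx⟩ := exists_chart_mem n _ _ (ProjPic26.isPullback_chi n A) x
  exact ⟨_, hx, FinCov.exists_iso_of_frame (isFrame_chart n _ _ (ProjPic26.isPullback_chi n A) i hV)⟩

theorem isZero_Wt {p : ℕ} (hp : n < p) (d : ℤ) : IsZero (Wt n A p d) := by
  exact isZero_tensorMod (isZero_wedge_of_rank_lt (isFinLocFreeOfRank_omegaP n A) hp)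

end GrothLib.OmegaPn27
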