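import Groth.Agent.Lib.OmegaPn27.Bott
import Groth.Agent.Lib.DualSm27.Hodge
import Groth.Agent.Lib.RelExtTwist20.Basic
import Groth.Agent.Lib.FundIso27.Iso
import Groth.Agent.Lib.ProjDim.Const

/-!
# Bott's formula
-/

set_option autoImplicit false
set_option maxHeartbeats 800000
set_option linter.style.haveILetI false
set_option backward.isDefEq.respectTransparency false

universe u

open CategoryTheory CategoryTheory.Limits AlgebraicGeometry Opposite TopologicalSpace
open GrothLib.ExtPowX (wedge)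

noncomputable section

namespace GrothLib.OmegaPn27

theorem nonempty_iHom_tensor {X : Scheme.{u}} {W L N : X.Modules} (hW : FlatMod.IsFinLocFree W)
    (hL : PicF.IsInvertible L) (hN : FlatMod.IsFinLocFree N) [DCoh.HasSheafHom (CohB1.tensorMod W L)]
    [DCoh.HasSheafHom W] (u : CohB1.tensorMod N L ≅ Coh.structureModule X) (G : X.Modules) :
    Nonempty ((DCoh.sheafHom (CohB1.tensorMod W L)).obj G ≅ CohB1.tensorMod ((DCoh.sheafHom W).obj G) N) := by
  haveI := RelExtTwist20.hasSheafHom W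
  haveI := RelExtTwist20.hasSheafHom L
  haveI := RelExtTwist20.hasSheafHom (CohB1.tensorMod W L)
  have hLf : FlatMod.IsFinLocFree L := Euler.isFinLocFree_of_isInvertible hL
  obtain ⟨a⟩ := FundIso27.nonempty_sheafHom_tensor_iso hL N
  let d : LocFreeDual20.dual L ≅ N := ((LocFreeDual20.siteHomIso L).app (Coh.structureModule X)).symm ≪≫
    (ModSite.sheafHom (O := X.sheaf) L).mapIso u.symm ≪≫ a
  obtain ⟨b⟩ := RelExtTwist20.nonempty_homObj_iso hLf d G
  let W' := (ModSite.sheafHom (O := X.sheaf) W).obj (Coh.structureModule X)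
  exact ⟨((LocFreeDual20.siteHomIso (CohB1.tensorMod W L)).app G).symm ≪≫
    ((LocFreeDual20.homTensorIso W L).app G).symm ≪≫ (ModSite.sheafHom (O := X.sheaf) W).mapIso b ≪≫
    LocFreeDual20.homObjIso hW (CohB1.tensorMod G N) ≪≫
    OX.tensorAssoc G N W' ≪≫ Ample.LineData.tensorModMapIso (Iso.refl G) (GrTilde.tensorModComm N W') ≪≫
    (OX.tensorAssoc G W' N).symm ≪≫
    Ample.LineData.tensorModMapIso ((LocFreeDual20.homObjIso hW G).symm ≪≫ (LocFreeDual20.siteHomIso W).app G)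
      (Iso.refl N)⟩

variable (r : ℕ) (k : Type u) [Field k]

theorem finrank_X₂_zero {X : Scheme.{u}} [X.Over (Spec (CommRingCat.of k))] {S : ShortComplex X.Modules}
    (hS : S.ShortExact) (h : Subsingleton (Coh.HH X S.X₁ 1)) [Module.Finite k (Coh.HH X S.X₂ 0)] :
    Module.finrank k (Coh.HH X S.X₂ 0) = Module.finrank k (Coh.HH X S.X₁ 0) + Module.finrank k (Coh.HH X S.X₃ 0) := by
  have hg : Function.Surjective (Cohom.hhMap k S.g 0) := fun x =>
    (Cohom.exact₃ (A := k) hS 0 x).1 (Subsingleton.elim _ _)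
  rw [← LinearMap.finrank_range_add_finrank_ker (Cohom.hhMap k S.g 0), LinearMap.range_eq_top.2 hg, finrank_top,
    LinearMap.exact_iff.1 (Cohom.exact₂ (A := k) hS 0),
    LinearMap.finrank_range_of_inj (Euler.hhMap_zero_injective (A := k) hS), add_comm]

variable [QuasiSeparated (CohB1.ProjSpace.toSpec r k)]

theorem finrank_pos_zero : ∀ (p : ℕ), p ≤ r → ∀ (d : ℕ), p < d →
    Module.finrank k (Coh.HH (CohB1.ProjSpace r k) (Wt r k p (d : ℤ)) 0) =
      (d + r - p).choose d * (d - 1).choose p := by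
  intro p
  induction p with
  | zero =>
    intro _ d _
    obtain ⟨a⟩ := nonempty_Wt_zero_left r k (d : ℤ)
    obtain ⟨e⟩ := ProjCohom.nonempty_HH_zero (n := r) (R := k) d
    rw [(Euler.hhEquiv (A := k) a 0 ≪≫ₗ e).finrank_eq, ProjCohom.finrank_forms, Nat.choose_zero_right, mul_one,
      Nat.sub_zero, Nat.add_comm d r]
  | succ p ih =>
    intro hp d hd
    obtain ⟨T, hT, ⟨a₁⟩, ⟨a₂⟩, ⟨a₃⟩⟩ := exists_seq' r k p (d : ℤ)
    obtain ⟨e', he'⟩ : ∃ e' : ℕ, d = p + 2 + e' := ⟨d - (p + 2), by omega⟩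
    obtain ⟨s, hs⟩ : ∃ s : ℕ, r = p + 1 + s := ⟨r - (p + 1), by omega⟩
    have hcast : (d : ℤ) - ((p + 1 : ℕ) : ℤ) = ((e' + 1 : ℕ) : ℤ) := by omega
    obtain ⟨σ⟩ := nonempty_HH_sigma (A := k) (OD r k ((d : ℤ) - ((p + 1 : ℕ) : ℤ))) ((r + 1).choose (p + 1)) 0
    obtain ⟨φ⟩ : Nonempty (Coh.HH (CohB1.ProjSpace r k) (OD r k ((d : ℤ) - ((p + 1 : ℕ) : ℤ))) 0 ≃ₗ[k]
        MvPolynomial.homogeneousSubmodule (Fin (r + 1)) k (e' + 1)) := by
      rw [hcast]; exact ProjCohom.nonempty_HH_zero (n := r) (R := k) (e' + 1)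
    let Φ := Euler.hhEquiv (A := k) a₂ 0 ≪≫ₗ σ ≪≫ₗ (LinearEquiv.piCongrRight fun _ => φ ≪≫ₗ
      ProjCohom.formsEquiv (n := r) (R := k) (e' + 1))
    haveI : Finite {P : Fin (r + 1) → ℕ // ∑ i, P i = e' + 1} :=
      Finite.of_equiv _ (Sym.equivNatSumOfFintype (Fin (r + 1)) (e' + 1))
    haveI : Module.Finite k (Coh.HH (CohB1.ProjSpace r k) T.X₂ 0) := Module.Finite.equiv Φ.symm
    have h1 : Subsingleton (Coh.HH (CohB1.ProjSpace r k) T.X₁ 1) :=
      subsingleton_iso r k a₁ (subsingleton_pos r k (by omega) (p + 1) Nat.one_pos)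
    have key := finrank_X₂_zero k hT h1
    rw [Φ.finrank_eq, (Euler.hhEquiv (A := k) a₁ 0).finrank_eq, (Euler.hhEquiv (A := k) a₃ 0).finrank_eq,
      ih (by omega) d (by omega)] at key
    have hl : Module.finrank k (Fin ((r + 1).choose (p + 1)) → {P : Fin (r + 1) → ℕ // ∑ i, P i = e' + 1} → k) =
        (r + 1).choose (p + 1) * (r + (e' + 1)).choose (e' + 1) := by
      haveI : Module.Finite k (MvPolynomial.homogeneousSubmodule (Fin (r + 1)) k (e' + 1)) :=
        Module.Finite.equiv (ProjCohom.formsEquiv (n := r) (R := k) (e' + 1)).symm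
      rw [← (LinearEquiv.piCongrRight fun _ : Fin ((r + 1).choose (p + 1)) =>
        ProjCohom.formsEquiv (n := r) (R := k) (e' + 1)).finrank_eq, Module.finrank_pi_fintype]
      simp [ProjCohom.finrank_forms]
    rw [hl] at key
    subst he' hs
    have hid := choose_identity p e' s
    rw [show p + 1 + s + 1 = p + s + 2 by omega, Nat.choose_symm_add.symm,
      show p + 1 + s + (e' + 1) = e' + 1 + (p + 1 + s) by omega, hid] at key
    simp only [show p + 2 + e' + (p + 1 + s) - (p + 1) = p + 2 + e' + s by omega,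
      show p + 2 + e' + (p + 1 + s) - p = p + 2 + e' + (s + 1) by omega,
      show p + 2 + e' - 1 = p + 1 + e' by omega, show p + (1 + e') = p + 1 + e' by omega] at key ⊢
    omega

theorem finrank_dual {p q : ℕ} (hp : p ≤ r) (hq : q ≤ r) (d : ℤ) :
    Module.finrank k (Coh.HH (CohB1.ProjSpace r k) (Wt r k p d) q) =
      Module.finrank k (Coh.HH (CohB1.ProjSpace r k) (Wt r k (r - p) (-d)) (r - q)) := by
  haveI := (ProjDim.isIntegral_proj k r).nonempty
  haveI : Nonempty (CohB1.ProjSpace r k) := (ProjDim.isIntegral_proj k r).nonempty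
  haveI : SmoothOfRelativeDimension r (CohB1.ProjSpace r k ↘ Spec (CommRingCat.of k)) :=
    smoothOfRelativeDimension_toSpec r k
  have hι : 𝟙 (CohB1.ProjSpace r k) ≫ CohB1.ProjSpace.toSpec r k = CohB1.ProjSpace r k ↘ Spec (CommRingCat.of k) :=
    Category.id_comp _
  have hW : ∀ m, FlatMod.IsFinLocFree (wedge (OmegaP r k) m) := fun m =>
    ExtPowX.isFinLocFree_wedge (isFinLocFree_omegaP r k) m
  have hO : ∀ a : ℤ, FlatMod.IsFinLocFree (OD r k a) := fun a =>
    Euler.isFinLocFree_of_isInvertible (ProjPic26.isInvertible_twistProjSpace r k a)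
  have hF : FlatMod.IsFinLocFree (Wt r k p d) :=
    ModelK.isFinLocFree_tensorMod (A := wedge (OmegaP r k) p) (B := OD r k d) (hW p) (hO d)
  haveI : DCoh.HasSheafHom (wedge (OmegaP r k) p) := LocFreeHom.hasSheafHom _
  haveI : DCoh.HasSheafHom (CohB1.tensorMod (wedge (OmegaP r k) p) (OD r k d)) := LocFreeHom.hasSheafHom _
  obtain ⟨D⟩ := DualSm27.nonempty_dual_HH k r r (CohB1.ProjSpace r k) (𝟙 _) hι (wedge (OmegaP r k) r)
    (ExtPowX.isExtPow_wedge (isFinLocFree_omegaP r k) r) (Wt r k p d) hF q hq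
  obtain ⟨c⟩ := WedgePair27.nonempty_iso_iHom (OmegaP r k) (isFinLocFree_omegaP r k) (p := p) (q := r - p) (n := r)
    (by omega) (fun x => by
      obtain ⟨i, V, hV, hx⟩ := exists_chart_mem r _ _ (ProjPic26.isPullback_chi r k) x
      exact ⟨_, _, hx, isFrame_chart r _ _ (ProjPic26.isPullback_chi r k) i hV⟩)
  obtain ⟨u₀⟩ := nonempty_twist_add r k (-d) d
  obtain ⟨u₁⟩ := GrTilde.nonempty_structureModule_iso_twist_zero (CohB1.polyGrading r k)
  rw [neg_add_cancel] at u₀
  obtain ⟨θ⟩ := nonempty_iHom_tensor (X := CohB1.ProjSpace r k) (hW p)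
    (ProjPic26.isInvertible_twistProjSpace r k d) (hO (-d)) (u₀ ≪≫ u₁.symm) (wedge (OmegaP r k) r)
  let e : (DCoh.sheafHom (CohB1.tensorMod (wedge (OmegaP r k) p) (OD r k d))).obj (wedge (OmegaP r k) r) ≅
      Wt r k (r - p) (-d) := θ ≪≫ Ample.LineData.tensorModMapIso c.symm (Iso.refl _)
  rw [← Subspace.dual_finrank_eq, D.finrank_eq]
  exact (Euler.hhEquiv (A := k) e (r - q)).finrank_eq

end GrothLib.OmegaPn27
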