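import Groth.Agent.Lib.Adj27.Ring
import Mathlib.LinearAlgebra.ExteriorPower.Basic
import Mathlib.LinearAlgebra.Alternating.Uncurry.Fin
import Mathlib.RingTheory.Etale.Kaehler

/-!
# The Euler form on homogeneous coordinates
-/

set_option autoImplicit false
set_option maxHeartbeats 800000
set_option linter.style.haveILetI false

universe u

open KaehlerDifferential Function

noncomputable section

namespace GrothLib.OmegaPn27

section Form

variable (R : Type u) [CommRing R] (M : Type u) [AddCommGroup M] [Module R M] (n : ℕ)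

/-- The summand of the Euler form. -/
def wStep : (R × M) →ₗ[R] (R × M) [⋀^Fin n]→ₗ[R] ↥(⋀[R]^n M) :=
  (LinearMap.fst R R M).smulRight ((exteriorPower.ιMulti R n).compLinearMap (LinearMap.snd R R M))

/-- `(a_j, w_j) ↦ Σ (-1)^j a_j w_0 ∧ ⋯ ŵ_j ⋯ ∧ w_n`. -/
def wF : (R × M) [⋀^Fin (n + 1)]→ₗ[R] ↥(⋀[R]^n M) :=
  AlternatingMap.alternatizeUncurryFin (wStep R M n)

variable {R M n}

theorem wF_apply (v : Fin (n + 1) → R × M) :
    wF R M n v = ∑ j : Fin (n + 1), ((-1) ^ (j : ℕ) : ℤ) •
      ((v j).1 • exteriorPower.ιMulti R n fun l => (v (j.succAbove l)).2) := by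
  rw [wF, AlternatingMap.alternatizeUncurryFin_apply]
  exact Finset.sum_congr rfl fun j _ => rfl

theorem wF_eq_zero (v : Fin (n + 1) → R × M) (h : ∀ j, (v j).1 = 0) : wF R M n v = 0 := by
  rw [wF_apply]
  exact Finset.sum_eq_zero fun j _ => by rw [h j, zero_smul, smul_zero]

theorem wF_eq (v : Fin (n + 1) → R × M) (i : Fin (n + 1)) (hi : v i = (1, 0)) :
    wF R M n v = ((-1) ^ (i : ℕ) : ℤ) • exteriorPower.ιMulti R n fun l => (v (i.succAbove l)).2 := by
  rw [wF_apply, Finset.sum_eq_single i]
  · rw [hi, one_smul]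
  · intro j _ hj
    obtain ⟨l, hl⟩ := Fin.exists_succAbove_eq (Ne.symm hj)
    rw [AlternatingMap.map_coord_zero _ l (by rw [hl, hi]), smul_zero, smul_zero]
  · exact fun h => (h (Finset.mem_univ i)).elim

theorem map_add_smul_eq {ι N N' : Type*} [Fintype ι] [DecidableEq ι] [AddCommGroup N] [Module R N]
    [AddCommGroup N'] [Module R N'] (G : N [⋀^ι]→ₗ[R] N') (q : ι → N) (a : ι → R) (i : ι) (ha : a i = 0) :
    G (fun l => q l + a l • q i) = G q := by
  suffices ∀ s : Finset ι, G (fun l => if l ∈ s then q l + a l • q i else q l) = G q by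
    simpa using this Finset.univ
  intro s
  induction s using Finset.induction_on with
  | empty => simp
  | insert j s hj ih =>
    set w := fun l => if l ∈ s then q l + a l • q i else q l with hw
    have hwi : w i = q i := by simp [hw, ha]
    have hwj : w j = q j := by simp [hw, hj]
    have : (fun l => if l ∈ insert j s then q l + a l • q i else q l) = update w j (w j + a j • q i) := by
      funext l
      by_cases hl : l = j
      · subst hl; simp [hwj]
      · simp [hw, hl]
    rw [this, G.map_update_add, update_eq_self, G.map_update_smul, ih]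
    by_cases hij : j = i
    · subst hij; rw [ha, zero_smul, add_zero]
    · rw [← hwi, G.map_update_self _ hij, smul_zero, add_zero]

theorem wF_translate (v : Fin (n + 1) → R × M) (c : M) (i : Fin (n + 1)) (hi : v i = (1, 0)) :
    wF R M n (fun l => v l + (v l).1 • ((0 : R), c)) = wF R M n v := by
  classical
  let a : Fin (n + 1) → R := update (fun l => (v l).1) i 0
  let q : M → Fin (n + 1) → R × M := fun c => update (fun l => ((0 : R), (v l).2)) i (1, c)
  have h1 : (fun l => v l + (v l).1 • ((0 : R), c)) = fun l => q c l + a l • q c i := by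
    funext l
    by_cases hl : l = i
    · subst hl; simp [q, a, hi]
    · ext <;> simp [q, a, hl]
  have h2 : v = fun l => q 0 l + a l • q 0 i := by
    funext l
    by_cases hl : l = i
    · subst hl; simp [q, a, hi]
    · ext <;> simp [q, a, hl]
  rw [h1, map_add_smul_eq _ _ _ i (by simp [a])]
  conv_rhs => rw [h2, map_add_smul_eq _ _ _ i (by simp [a])]
  have h3 : q c = update (q 0) i ((1, (0 : M)) + ((0 : R), c)) := by
    funext l
    by_cases hl : l = i
    · subst hl; simp [q]
    · simp [q, hl]
  rw [h3, AlternatingMap.map_update_add]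
  have h4 : update (q 0) i (1, (0 : M)) = q 0 := by simp [q]
  rw [h4, wF_eq_zero (update (q 0) i ((0 : R), c)) (fun j => by by_cases hj : j = i <;> simp [q, hj]), add_zero]

/-- The transition rule. -/
theorem wF_change (v v' : Fin (n + 1) → R × M) (u : R) (c : M) (i : Fin (n + 1)) (hi : v i = (1, 0))
    (h : ∀ l, v' l = u • (v l + (v l).1 • ((0 : R), c))) :
    wF R M n v' = u ^ (n + 1) • wF R M n v := by
  rw [show v' = fun l => u • (v l + (v l).1 • ((0 : R), c)) from funext h, AlternatingMap.map_smul_univ,
    wF_translate v c i hi, Finset.prod_const, Finset.card_univ, Fintype.card_fin]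

end Form

/-- The differentials of free coordinates form a basis. -/
theorem bijective_coords_of_free {A B : Type u} [CommRing A] [CommRing B] [Algebra A B] {n : ℕ} (s : Fin n → B)
    (hs : Bijective (MvPolynomial.aeval (R := A) s)) :
    Bijective (Fintype.linearCombination B (fun i => D A B (s i))) := by
  letI : Algebra (MvPolynomial (Fin n) A) B := (MvPolynomial.aeval s).toRingHom.toAlgebra
  haveI : IsScalarTower A (MvPolynomial (Fin n) A) B :=
    IsScalarTower.of_algebraMap_eq' (MvPolynomial.aeval s).comp_algebraMap.symm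
  haveI : Algebra.Etale (MvPolynomial (Fin n) A) B :=
    Algebra.Etale.of_equiv (AlgEquiv.ofBijective (Algebra.ofId (MvPolynomial (Fin n) A) B) hs)
  let b := (Algebra.TensorProduct.basis B (KaehlerDifferential.mvPolynomialBasis A (Fin n))).map
    (KaehlerDifferential.tensorKaehlerEquivOfFormallyEtale A (MvPolynomial (Fin n) A) B)
  have hb : ∀ i, b i = D A B (s i) := fun i => by
    rw [Module.Basis.map_apply, Algebra.TensorProduct.basis_apply]
    simp [RingHom.algebraMap_toAlgebra]
  have : ⇑(Fintype.linearCombination B (fun i => D A B (s i))) = ⇑b.equivFun.symm := by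
    funext a
    rw [Fintype.linearCombination_apply, Module.Basis.equivFun_symm_apply]
    exact Finset.sum_congr rfl fun i _ => by rw [hb]
  rw [this]
  exact b.equivFun.symm.bijective

/-- A pushout of a polynomial algebra over `ℤ` is a polynomial algebra. -/
theorem bijective_eval₂_of_pushout {Z A P B : CommRingCat.{u}} {f : Z ⟶ A} {g : Z ⟶ P} {inl : A ⟶ B}
    {inr : P ⟶ B} (h : CategoryTheory.IsPushout f g inl inr)
    (hZ : ∀ (S : CommRingCat.{u}) (p q : Z ⟶ S), p = q) {n : ℕ} (s : Fin n → P)
    (e : MvPolynomial (Fin n) (ULift.{u} ℤ) ≃+* P) (he : ∀ i, e (MvPolynomial.X i) = s i) :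
    Bijective (MvPolynomial.eval₂Hom inl.hom fun i => inr.hom (s i)) := by
  let zA : ULift.{u} ℤ →+* MvPolynomial (Fin n) A := (Int.castRingHom _).comp ULift.ringEquiv.toRingHom
  let φ : MvPolynomial (Fin n) A →+* B := MvPolynomial.eval₂Hom inl.hom fun i => inr.hom (s i)
  let a : A ⟶ CommRingCat.of (MvPolynomial (Fin n) A) := CommRingCat.ofHom MvPolynomial.C
  let b : P ⟶ CommRingCat.of (MvPolynomial (Fin n) A) :=
    CommRingCat.ofHom ((MvPolynomial.eval₂Hom zA MvPolynomial.X).comp e.symm.toRingHom)
  let ψ : B ⟶ CommRingCat.of (MvPolynomial (Fin n) A) := h.desc a b (hZ _ _ _)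
  have hb : ∀ i, b.hom (s i) = MvPolynomial.X i := fun i => by
    show MvPolynomial.eval₂Hom zA MvPolynomial.X (e.symm (s i)) = _
    rw [← he, RingEquiv.symm_apply_apply, MvPolynomial.eval₂Hom_X']
  have h1 : ∀ x, ψ.hom (φ x) = x := RingHom.congr_fun <| MvPolynomial.ringHom_ext
    (f := ψ.hom.comp φ) (g := RingHom.id _) (fun r => by
      simp only [φ, RingHom.comp_apply, MvPolynomial.eval₂Hom_C, RingHom.id_apply]
      exact CategoryTheory.ConcreteCategory.congr_hom (h.inl_desc a b (hZ _ _ _)) r)
    fun i => by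
      simp only [φ, RingHom.comp_apply, MvPolynomial.eval₂Hom_X', RingHom.id_apply]
      exact (CategoryTheory.ConcreteCategory.congr_hom (h.inr_desc a b (hZ _ _ _)) (s i)).trans (hb i)
  have h2 : CategoryTheory.CategoryStruct.comp ψ (CommRingCat.ofHom φ) = CategoryTheory.CategoryStruct.id B := by
    refine h.hom_ext ?_ ?_
    · rw [CategoryTheory.IsPushout.inl_desc_assoc, CategoryTheory.Category.comp_id]
      exact CommRingCat.hom_ext (RingHom.ext fun r => MvPolynomial.eval₂Hom_C _ _ r)
    · rw [CategoryTheory.IsPushout.inr_desc_assoc, CategoryTheory.Category.comp_id]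
      refine CommRingCat.hom_ext (RingHom.ext fun p => ?_)
      obtain ⟨x, rfl⟩ := e.surjective p
      show φ (MvPolynomial.eval₂Hom zA MvPolynomial.X (e.symm (e x))) = inr.hom (e x)
      rw [RingEquiv.symm_apply_apply]
      refine RingHom.congr_fun (MvPolynomial.ringHom_ext (f := φ.comp (MvPolynomial.eval₂Hom zA MvPolynomial.X))
        (g := inr.hom.comp e.toRingHom) (fun r => ?_) fun i => ?_) x
      · refine RingHom.congr_fun (f := ((φ.comp (MvPolynomial.eval₂Hom zA MvPolynomial.X)).comp MvPolynomial.C))
          (g := (inr.hom.comp e.toRingHom).comp MvPolynomial.C) ?_ r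
        refine RingHom.ext fun r => ?_
        have hr : r = ((r.down : ℤ) : ULift.{u} ℤ) := by ext; simp
        rw [hr, map_intCast, map_intCast]
      · simp [φ, he]
  exact ⟨LeftInverse.injective h1, fun y => ⟨ψ.hom y, CategoryTheory.ConcreteCategory.congr_hom h2 y⟩⟩

end GrothLib.OmegaPn27
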