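import Groth.Agent.Lib.OmegaPn27.Alg
import Groth.Agent.Lib.Adj27.Chart
import Groth.Agent.Lib.ProjPic26.Over
import Groth.Agent.Lib.ProjPic26.Chart
import Groth.Agent.Lib.Ample.CocPullback
import Groth.Agent.Lib.Grass26.Smooth

/-!
# The standard charts of relative projective space
-/

set_option autoImplicit false
set_option maxHeartbeats 1600000
set_option linter.style.haveILetI false
set_option backward.isDefEq.respectTransparency false

universe u

open CategoryTheory CategoryTheory.Limits AlgebraicGeometry Opposite TopologicalSpace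
open GrothLib.InvExt (mres fres)
open GrothLib.Ample (res)
open GrothLib.FinCov (IsFrame)

noncomputable section

namespace GrothLib.OmegaPn27

variable (n : ℕ) {XX Y : Scheme.{u}} (π : XX ⟶ Y) (j : XX ⟶ CohB1.ProjSpace n (ULift.{u} ℤ))
  (H : IsPullback j π (CohB1.ProjSpace.toSpec n (ULift.{u} ℤ)) (specULiftZIsTerminal.from Y))

/-- The integers in the working universe. -/
abbrev ZU : Type u := ULift.{u} ℤ

/-- The grading over the integers. -/
abbrev P0 : ℕ → Submodule ZU.{u} (MvPolynomial (Fin (n + 1)) ZU.{u}) := CohB1.polyGrading n ZU.{u}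

/-- The standard chart. -/
abbrev U (i : Fin (n + 1)) : XX.Opens :=
  j ⁻¹ᵁ Proj.basicOpen (P0.{u} n) (MvPolynomial.X i)

/-- The ratio on projective space over the integers. -/
def r₀ (i l : Fin (n + 1)) : Γ(Proj (P0.{u} n), Proj.basicOpen (P0.{u} n) (MvPolynomial.X i)) :=
  Proj.awayToSection (P0.{u} n) (MvPolynomial.X i) (Ample.ProjMap.ratio i l)

/-- The ratio `X l / X i` on the chart. -/
def t (i l : Fin (n + 1)) : Γ(XX, U n j i) :=
  j.app (Proj.basicOpen (P0.{u} n) (MvPolynomial.X i)) (r₀ n i l)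

/-- The cocycle of `O(1)`. -/
abbrev coc : Ample.Cocycle XX := (Ample.ProjMap.pcoc n ZU.{u}).comap j

theorem G_eq (i k : Fin (n + 1)) {W : XX.Opens} (hi : W ≤ U n j i) (hk : W ≤ U n j k) :
    (coc n j).G ⟨i⟩ ⟨k⟩ hi hk = fres XX hi (t n j i k) := by
  let P := Ample.ProjMap.pcoc n ZU.{u}
  have h := P.appLE_G (j := j) ⟨i⟩ ⟨k⟩ (V := P.D ⟨i⟩ ⊓ P.D ⟨k⟩) inf_le_left inf_le_right (W := W) (le_inf hi hk)
  refine h.symm.trans ?_
  rw [Ample.ProjMap.g_pcoc]
  refine (Ample.appLE_res j inf_le_left (le_inf hi hk) _).trans ?_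
  show _ = (j.app _ ≫ XX.presheaf.map _).hom _
  rw [Scheme.Hom.app_eq_appLE, Scheme.Hom.appLE_map]
  rfl

theorem t_self (i : Fin (n + 1)) : t n j i i = 1 := by
  have h := G_eq n j i i (le_refl (U n j i)) (le_refl _)
  rw [Ample.Cocycle.G_self, InvExt.fres_self] at h
  exact h.symm

theorem t_inv {i k : Fin (n + 1)} {W : XX.Opens} (hi : W ≤ U n j i) (hk : W ≤ U n j k) :
    fres XX hk (t n j k i) * fres XX hi (t n j i k) = 1 := by
  rw [← G_eq n j k i hk hi, ← G_eq n j i k hi hk]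
  exact (coc n j).G_mul_G _ _ _ _

theorem r₀_mul (i k l : Fin (n + 1)) {V : (Proj (P0.{u} n)).Opens}
    (hi : V ≤ Proj.basicOpen (P0.{u} n) (MvPolynomial.X i)) (hk : V ≤ Proj.basicOpen (P0.{u} n) (MvPolynomial.X k)) :
    res hk (r₀ n k l) = res hk (r₀ n k i) * res hi (r₀ n i l) := by
  refine Ample.ProjTwist.ev_ext fun y => ?_
  refine Eq.trans ?_ (Ample.ProjTwist.ev_mul _ _ y).symm
  erw [Ample.ProjTwist.ev_res, Ample.ProjTwist.ev_res, Ample.ProjTwist.ev_res,
    Ample.ProjMap.ev_awayToSection_ratio, Ample.ProjMap.ev_awayToSection_ratio,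
    Ample.ProjMap.ev_awayToSection_ratio]
  rw [Localization.mk_mul, Localization.mk_eq_mk_iff, Localization.r_iff_exists]
  exact ⟨1, by simp only [OneMemClass.coe_one, one_mul, Submonoid.coe_mul]; ring⟩

theorem t_mul (i k l : Fin (n + 1)) {W : XX.Opens} (hi : W ≤ U n j i) (hk : W ≤ U n j k) :
    fres XX hk (t n j k l) = fres XX hk (t n j k i) * fres XX hi (t n j i l) := by
  let V := Proj.basicOpen (P0.{u} n) (MvPolynomial.X i) ⊓ Proj.basicOpen (P0.{u} n) (MvPolynomial.X k)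
  have e : W ≤ j ⁻¹ᵁ V := le_inf hi hk
  have h := congrArg (j.appLE V W e).hom (r₀_mul n i k l (inf_le_left : V ≤ _) inf_le_right)
  rw [map_mul] at h
  erw [Ample.appLE_res, Ample.appLE_res, Ample.appLE_res] at h
  have key : ∀ a b (hb : W ≤ U n j a), fres XX hb (t n j a b) = (j.appLE _ W hb).hom (r₀ n a b) := fun a b hb => by
    show (j.app _ ≫ XX.presheaf.map _).hom _ = _
    rw [Scheme.Hom.app_eq_appLE, Scheme.Hom.appLE_map]
  rw [key, key, key]
  exact h

theorem iSup_U : ⨆ i, U n j i = ⊤ := by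
  rw [← Scheme.Hom.preimage_iSup, Ample.ProjMap.iSup_basicOpen_X, Scheme.Hom.preimage_top]

section Frame

include H in
theorem isAffineOpen_chart (i : Fin (n + 1)) {V : Y.Opens} (hV : IsAffineOpen V) :
    IsAffineOpen (U n j i ⊓ π ⁻¹ᵁ V) := by
  have hD : IsAffineOpen (Proj.basicOpen (P0.{u} n) (MvPolynomial.X i)) :=
    Proj.isAffineOpen_basicOpen _ _ (Ample.ProjMap.X_mem i) one_pos
  haveI : IsAffine _ := hV
  haveI : IsAffine _ := hD
  haveI : IsAffine _ := isAffineOpen_top (Spec (CommRingCat.of ZU.{u}))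
  exact .of_isIso (Scheme.Hom.isPullback_resLE H (US := ⊤) (UT := V)
    (UX := Proj.basicOpen (P0.{u} n) (MvPolynomial.X i))
    (UY := U n j i ⊓ π ⁻¹ᵁ V) le_top le_top rfl).isoPullback.hom

include H in
theorem bijective_chart (i : Fin (n + 1)) {V : Y.Opens} (hV : IsAffineOpen V) :
    Function.Bijective (MvPolynomial.eval₂Hom (π.appLE V (U n j i ⊓ π ⁻¹ᵁ V) inf_le_right).hom
      fun l => fres XX (inf_le_left : U n j i ⊓ π ⁻¹ᵁ V ≤ U n j i) (t n j i (i.succAbove l))) := by
  let D := Proj.basicOpen (P0.{u} n) (MvPolynomial.X i)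
  let W : XX.Opens := U n j i ⊓ π ⁻¹ᵁ V
  have hD : IsAffineOpen D := Proj.isAffineOpen_basicOpen _ _ (Ample.ProjMap.X_mem i) one_pos
  have hP : IsPushout ((specULiftZIsTerminal.from Y).appLE ⊤ V le_top)
      ((CohB1.ProjSpace.toSpec n ZU.{u}).appLE ⊤ D le_top) (π.appLE V W inf_le_right) (j.appLE D W inf_le_left) :=
    ((AlgebraicGeometry.isIso_pushoutSection_iff H (US := ⊤) (UT := V) (UX := D) (UY := W)
      le_top le_top rfl).1
      (AlgebraicGeometry.isIso_pushoutSection_of_isAffineOpen H le_top le_top rfl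
        (isAffineOpen_top _) hV hD)).flip
  have hZ : ∀ (S : CommRingCat.{u}) (p q : Γ(Spec (CommRingCat.of ZU.{u}), ⊤) ⟶ S), p = q := fun S p q => by
    have h : (Scheme.ΓSpecIso (CommRingCat.of ZU.{u})).inv ≫ p = (Scheme.ΓSpecIso (CommRingCat.of ZU.{u})).inv ≫ q :=
      CommRingCat.hom_ext (RingHom.ext fun r => by
        have hr : r = ((r.down : ℤ) : ULift.{u} ℤ) := by ext; simp
        rw [hr, map_intCast, map_intCast])
    exact (Iso.cancel_iso_inv_left _ _ _).1 h
  let e₁ : MvPolynomial (Fin n) ZU.{u} ≃+* HomogeneousLocalization.Away (P0.{u} n) (MvPolynomial.X i) :=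
    RingEquiv.ofBijective _ (ProjPic26.affChart_bijective i)
  haveI : IsIso (Proj.awayToSection (P0.{u} n) (MvPolynomial.X i)) :=
    (Proj.basicOpenIsoAway (P0.{u} n) (MvPolynomial.X i) (Ample.ProjMap.X_mem i) one_pos).isIso_hom
  let e : MvPolynomial (Fin n) ZU.{u} ≃+* Γ(Proj (P0.{u} n), D) :=
    e₁.trans (asIso (Proj.awayToSection (P0.{u} n) (MvPolynomial.X i))).commRingCatIsoToRingEquiv
  have he : ∀ l, e (MvPolynomial.X l) = r₀ n i (i.succAbove l) := fun l => by
    show Proj.awayToSection (P0.{u} n) _ (ProjPic26.affChart i (MvPolynomial.X l)) = _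
    rw [ProjPic26.affChart, MvPolynomial.eval₂Hom_X']
    rfl
  have hb := bijective_eval₂_of_pushout hP hZ (fun l => r₀ n i (i.succAbove l)) e he
  convert hb using 3
  funext l
  show (j.app _ ≫ XX.presheaf.map _).hom _ = _
  rw [Scheme.Hom.app_eq_appLE, Scheme.Hom.appLE_map]

include H in
theorem isFrame_chart [QuasiSeparated π] (i : Fin (n + 1)) {V : Y.Opens} (hV : IsAffineOpen V) :
    IsFrame (Omega.sheaf π) (U n j i ⊓ π ⁻¹ᵁ V)
      (fun l => Adj27.dd π _
        (fres XX inf_le_left (t n j i (i.succAbove l)))) := by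
  letI : Algebra Γ(Y, V) Γ(XX, U n j i ⊓ π ⁻¹ᵁ V) := (π.appLE V _ inf_le_right).hom.toAlgebra
  refine Adj27.isFrame_dd π (isAffineOpen_chart n π j H i hV) hV inf_le_right
    (fun l => fres XX inf_le_left (t n j i (i.succAbove l))) (bijective_coords_of_free _ ?_)
  exact bijective_chart n π j H i hV

include H in
/-- Projective space is smooth of relative dimension `n`. -/
theorem smoothOfRelativeDimension : SmoothOfRelativeDimension n π := by
  refine ⟨fun x => ?_⟩
  obtain ⟨i, hi⟩ := Opens.mem_iSup.1 ((iSup_U n j).ge (trivial : x ∈ (⊤ : XX.Opens)))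
  obtain ⟨V, hV, hxV, -⟩ := exists_isAffineOpen_mem_and_subset (x := π x) (U := (⊤ : Y.Opens)) trivial
  refine ⟨V, hV, _, isAffineOpen_chart n π j H i hV, ⟨hi, hxV⟩, inf_le_right, ?_⟩
  letI : Algebra Γ(Y, V) Γ(XX, U n j i ⊓ π ⁻¹ᵁ V) := (π.appLE V _ inf_le_right).hom.toAlgebra
  haveI := Grass26.mvPolynomial_standardSmooth Γ(Y, V) n
  haveI := Algebra.IsStandardSmoothOfRelativeDimension.of_algEquiv n
    (AlgEquiv.ofBijective (MvPolynomial.aeval (R := Γ(Y, V))
      (fun l => fres XX (inf_le_left : U n j i ⊓ π ⁻¹ᵁ V ≤ U n j i) (t n j i (i.succAbove l))))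
      (bijective_chart n π j H i hV))
  exact (RingHom.isStandardSmoothOfRelativeDimension_algebraMap n).2 this

end Frame

end GrothLib.OmegaPn27
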