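import Groth.Agent.Lib.OmegaPn27.Main
import Groth.Agent.Lib.DegDet.Formula
import Groth.Agent.Lib.QCoh.Extension
import Groth.Agent.Lib.AffHom.Basic
import Mathlib.LinearAlgebra.StdBasis

/-!
# The Euler sequence
-/

set_option autoImplicit false
set_option maxHeartbeats 1600000
set_option linter.style.haveILetI false
set_option backward.isDefEq.respectTransparency false

universe u

open CategoryTheory CategoryTheory.Limits AlgebraicGeometry Opposite TopologicalSpace
open GrothLib.InvExt (mres fres IsGen)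
open GrothLib.FinCov (IsFrame)
open GrothLib.VA (tm)

noncomputable section

namespace GrothLib.OmegaPn27

theorem fres_one {X : Scheme.{u}} {V W : X.Opens} (h : W ≤ V) : fres X h (1 : Γ(X, V)) = 1 :=
  map_one (X.presheaf.map (homOfLE h).op).hom

theorem fres_zero {X : Scheme.{u}} {V W : X.Opens} (h : W ≤ V) : fres X h (0 : Γ(X, V)) = 0 :=
  map_zero (X.presheaf.map (homOfLE h).op).hom

theorem fres_mul {X : Scheme.{u}} {V W : X.Opens} (h : W ≤ V) (a b : Γ(X, V)) :
    fres X h (a * b) = fres X h a * fres X h b :=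
  map_mul (X.presheaf.map (homOfLE h).op).hom a b

theorem fres_sum {X : Scheme.{u}} {V W : X.Opens} (h : W ≤ V) {α : Type*} (s : Finset α) (f : α → Γ(X, V)) :
    fres X h (∑ a ∈ s, f a) = ∑ a ∈ s, fres X h (f a) :=
  map_sum (X.presheaf.map (homOfLE h).op).hom f s

theorem mres_sum {X : Scheme.{u}} (M : X.Modules) {V W : X.Opens} (h : W ≤ V) {α : Type*} (s : Finset α)
    (f : α → Γ(M, V)) : mres M h (∑ a ∈ s, f a) = ∑ a ∈ s, mres M h (f a) :=
  map_sum (M.presheaf.map (homOfLE h).op).hom f s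

theorem exists_frame_free (X : Scheme.{u}) (m : ℕ) :
    ∃ e : Fin m → Γ(FlatMod.freeMod X m, ⊤), IsFrame (FlatMod.freeMod X m) ⊤ e := by
  obtain ⟨e, he⟩ := FinCov.exists_frame_of_iso (M := FlatMod.freeMod X m) (U := ⊤)
    ((Scheme.Modules.restrictFunctorIsoPullback (⊤ : X.Opens).ι).app _ ≪≫ OX.pullFreeModIso _ m)
  exact ⟨_, TensorGen.isFrame_restrict he (le_of_eq (Scheme.Opens.ι_image_top (⊤ : X.Opens)).symm)⟩

variable (n : ℕ) {XX Y : Scheme.{u}} (π : XX ⟶ Y) (j : XX ⟶ CohB1.ProjSpace n ZU.{u})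
  (H : IsPullback j π (CohB1.ProjSpace.toSpec n ZU.{u}) (specULiftZIsTerminal.from Y)) [QuasiSeparated π]

/-- `O(-1)`. -/
abbrev N1 : XX.Modules := (cocNeg n j).twist 1

/-- The middle term `O(-1)^(n+1)`. -/
abbrev EE : XX.Modules := CohB1.tensorMod (FlatMod.freeMod XX (n + 1)) (N1 n j)

/-- The frame of the middle term on a chart. -/
def fr (i : Fin (n + 1)) (l : Fin (n + 1)) : Γ(EE n j, U n j i) :=
  tm (mres (FlatMod.freeMod XX (n + 1)) (le_top : U n j i ≤ ⊤) ((exists_frame_free XX (n + 1)).choose l))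
    ((cocNeg n j).base 1 (V := U n j i) ⟨i⟩ le_rfl)

theorem isFrame_fr (i : Fin (n + 1)) : IsFrame (EE n j) (U n j i) (fr n j i) :=
  DegDet.isFrame_tm_gen (TensorGen.isFrame_restrict (exists_frame_free XX (n + 1)).choose_spec le_top)
    ((cocNeg n j).isGen_base 1 (V := U n j i) ⟨i⟩ le_rfl)

theorem mres_fr (i k : Fin (n + 1)) {W : XX.Opens} (hi : W ≤ U n j i) (hk : W ≤ U n j k) (l : Fin (n + 1)) :
    mres (EE n j) hk (fr n j k l) = fres XX hk (t n j k i) • mres (EE n j) hi (fr n j i l) := by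
  rw [fr, fr, VA.mres_tm, VA.mres_tm, InvExt.mres_mres, InvExt.mres_mres, ← VA.tm_smul_right]
  refine congrArg _ ?_
  show (cocNeg n j).sectRes hk ((cocNeg n j).base 1 (V := U n j k) ⟨k⟩ le_rfl) =
    fres XX hk (t n j k i) • (cocNeg n j).sectRes hi ((cocNeg n j).base 1 (V := U n j i) ⟨i⟩ le_rfl)
  rw [Ample.Cocycle.sectRes_base, Ample.Cocycle.sectRes_base]
  refine ((cocNeg n j).base_eq_smul_base 1 ⟨i⟩ ⟨k⟩ hi hk).trans ?_
  rw [pow_one, cocNeg_G n j i k hi hk, G_eq]

/-- The coordinates on an open of a chart. -/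
def co (i : Fin (n + 1)) {W : XX.Opens} (h : W ≤ U n j i) : Γ(EE n j, W) ≃ₗ[Γ(XX, W)] (Fin (n + 1) → Γ(XX, W)) :=
  ((isFrame_fr n j i).basis W h).equivFun

theorem eq_sum_co (i : Fin (n + 1)) {W : XX.Opens} (h : W ≤ U n j i) (x : Γ(EE n j, W)) :
    x = ∑ l, co n j i h x l • mres (EE n j) h (fr n j i l) := by
  conv_lhs => rw [← ((isFrame_fr n j i).basis W h).sum_equivFun x]
  exact Finset.sum_congr rfl fun l _ => by rw [FinCov.IsFrame.basis_apply]; rfl

theorem co_eq (i : Fin (n + 1)) {W : XX.Opens} (h : W ≤ U n j i) (x : Γ(EE n j, W)) (c : Fin (n + 1) → Γ(XX, W))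
    (hc : x = ∑ l, c l • mres (EE n j) h (fr n j i l)) : co n j i h x = c := by
  have : x = ((isFrame_fr n j i).basis W h).equivFun.symm c := by
    rw [Module.Basis.equivFun_symm_apply, hc]
    exact Finset.sum_congr rfl fun l _ => by rw [FinCov.IsFrame.basis_apply]
  rw [this]
  exact LinearEquiv.apply_symm_apply _ _

theorem co_mres (i : Fin (n + 1)) {W W' : XX.Opens} (h : W ≤ U n j i) (h' : W' ≤ W) (x : Γ(EE n j, W))
    (l : Fin (n + 1)) : co n j i (h'.trans h) (mres (EE n j) h' x) l = fres XX h' (co n j i h x l) := by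
  refine congrFun (co_eq n j i (h'.trans h) _ (fun l => fres XX h' (co n j i h x l)) ?_) l
  conv_lhs => rw [eq_sum_co n j i h x]
  rw [mres_sum]
  exact Finset.sum_congr rfl fun l _ => by rw [InvExt.mres_smul, InvExt.mres_mres]

theorem co_change (i k : Fin (n + 1)) {W : XX.Opens} (hi : W ≤ U n j i) (hk : W ≤ U n j k) (x : Γ(EE n j, W))
    (l : Fin (n + 1)) : co n j i hi x l = fres XX hk (t n j k i) * co n j k hk x l := by
  refine congrFun (co_eq n j i hi _ (fun l => fres XX hk (t n j k i) * co n j k hk x l) ?_) l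
  conv_lhs => rw [eq_sum_co n j k hk x]
  exact Finset.sum_congr rfl fun l _ => by rw [mres_fr n j i k hi hk, smul_smul, mul_comm]

/-- Evaluation `(c_l) ↦ ∑ c_l X_l`. -/
def evL (i : Fin (n + 1)) {W : XX.Opens} (h : W ≤ U n j i) : Γ(EE n j, W) →ₗ[Γ(XX, W)] Γ(XX, W) :=
  (Fintype.linearCombination Γ(XX, W) fun l => fres XX h (t n j i l)).comp (co n j i h).toLinearMap

theorem evL_apply (i : Fin (n + 1)) {W : XX.Opens} (h : W ≤ U n j i) (x : Γ(EE n j, W)) :
    evL n j i h x = ∑ l, co n j i h x l * fres XX h (t n j i l) := by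
  rw [evL, LinearMap.comp_apply, Fintype.linearCombination_apply]
  rfl

theorem evL_change (i k : Fin (n + 1)) {W : XX.Opens} (hi : W ≤ U n j i) (hk : W ≤ U n j k) (x : Γ(EE n j, W)) :
    evL n j i hi x = evL n j k hk x := by
  rw [evL_apply, evL_apply]
  exact Finset.sum_congr rfl fun l _ => by rw [co_change n j i k hi hk x l, t_mul n j i k l hi hk]; ring

/-- The differential form `(c_l) ↦ ∑ c_l d(X_l / X_i)`. -/
def psL (i : Fin (n + 1)) {W : XX.Opens} (h : W ≤ U n j i) : Γ(EE n j, W) →ₗ[Γ(XX, W)] Γ(Omega.sheaf π, W) :=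
  (Fintype.linearCombination Γ(XX, W) fun l => Adj27.dd π W (fres XX h (t n j i l))).comp (co n j i h).toLinearMap

theorem psL_apply (i : Fin (n + 1)) {W : XX.Opens} (h : W ≤ U n j i) (x : Γ(EE n j, W)) :
    psL n π j i h x = ∑ l, co n j i h x l • Adj27.dd π W (fres XX h (t n j i l)) := by
  rw [psL, LinearMap.comp_apply, Fintype.linearCombination_apply]
  rfl

theorem psL_change (i k : Fin (n + 1)) {W : XX.Opens} (hi : W ≤ U n j i) (hk : W ≤ U n j k) (x : Γ(EE n j, W))
    (hx : evL n j k hk x = 0) : psL n π j i hi x = psL n π j k hk x := by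
  rw [psL_apply, psL_apply]
  have h1 : ∀ l, co n j k hk x l • Adj27.dd π W (fres XX hk (t n j k l)) =
      co n j i hi x l • Adj27.dd π W (fres XX hi (t n j i l)) +
        (co n j k hk x l * fres XX hi (t n j i l)) • Adj27.dd π W (fres XX hk (t n j k i)) := fun l => by
    rw [t_mul n j i k l hi hk, co_change n j i k hi hk x l, Adj27.dd, OmegaSh.dSect_mul, smul_add, smul_smul,
      smul_smul, mul_comm (co n j k hk x l) (fres XX hk (t n j k i))]
  rw [Finset.sum_congr rfl fun l _ => h1 l, Finset.sum_add_distrib, ← Finset.sum_smul]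
  have h2 : fres XX hk (t n j k i) * ∑ l, co n j k hk x l * fres XX hi (t n j i l) = 0 := by
    rw [Finset.mul_sum, ← hx, evL_apply]
    exact Finset.sum_congr rfl fun l _ => by rw [t_mul n j i k l hi hk]; ring
  rw [((IsUnit.of_mul_eq_one _ (t_inv n j hi hk)).mul_right_eq_zero).1 h2, zero_smul, add_zero]

/-- The affine opens lying in a chart. -/
abbrev IW : Type u := {p : XX.affineOpens × Fin (n + 1) // p.1.1 ≤ U n j p.2}

include H in
omit [QuasiSeparated π] in
theorem isBasis_IW : Opens.IsBasis (Set.range fun p : IW n j => p.1.1.1) := by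
  refine Opens.isBasis_iff_nbhd.2 fun {V x} hx => ?_
  obtain ⟨i, hi⟩ := Opens.mem_iSup.1 ((iSup_U n j).ge (trivial : x ∈ (⊤ : XX.Opens)))
  obtain ⟨W, hW, hxW, hle⟩ := exists_isAffineOpen_mem_and_subset (U := V ⊓ U n j i) (x := x) ⟨hx, hi⟩
  exact ⟨W, ⟨⟨(⟨W, hW⟩, i), hle.trans inf_le_right⟩, rfl⟩, hxW, hle.trans inf_le_left⟩

include H in
omit [QuasiSeparated π] in
theorem exists_evMap : ∃ g : EE n j ⟶ Coh.structureModule XX,
    ∀ (i : Fin (n + 1)) (W : XX.affineOpens) (h : W.1 ≤ U n j i) (x : Γ(EE n j, W.1)),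
      g.app W.1 x = evL n j i h x := by
  obtain ⟨g, hg⟩ := AffHom.exists_hom_basis (M := EE n j) (N := Coh.structureModule XX) (isBasis_IW n π j H)
    (fun p => (evL n j p.1.2 p.2 : Γ(EE n j, p.1.1.1) →ₗ[Γ(XX, p.1.1.1)] Γ(XX, p.1.1.1))) (fun p q hqp x => by
      show fres XX hqp (evL n j p.1.2 p.2 x) = evL n j q.1.2 q.2 (mres (EE n j) hqp x)
      rw [evL_change n j q.1.2 p.1.2 q.2 (hqp.trans p.2), evL_apply, evL_apply, fres_sum]
      exact Finset.sum_congr rfl fun l _ => by rw [fres_mul, co_mres n j p.1.2 p.2 hqp, InvExt.fres_fres])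
  exact ⟨g, fun i W h x => hg ⟨(W, i), h⟩ x⟩

include H in
/-- The Euler sequence. -/
theorem exists_euler : ∃ (a : Omega.sheaf π ⟶ EE n j) (b : EE n j ⟶ Coh.structureModule XX) (w : a ≫ b = 0),
    (ShortComplex.mk a b w).ShortExact := by
  classical
  obtain ⟨g, hg⟩ := exists_evMap n π j H
  have hsplit : ∀ (i : Fin (n + 1)) (W : XX.Opens) (h : W ≤ U n j i) (c : Γ(XX, W)),
      evL n j i h (c • mres (EE n j) h (fr n j i i)) = c := fun i W h c => by
    rw [evL_apply, co_eq n j i h _ (Pi.single i c) (by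
      rw [Finset.sum_eq_single i (fun l _ hl => by simp [hl]) (by simp), Pi.single_eq_same]),
      Finset.sum_eq_single i (fun l _ hl => by simp [hl]) (by simp), Pi.single_eq_same, t_self, fres_one, mul_one]
  haveI : Epi g := ⟨fun {Z} a b hab => AffHom.hom_ext_basis (isBasis_IW n π j H) fun p c => by
    obtain ⟨y, hy⟩ : ∃ y, g.app p.1.1.1 y = c := ⟨_, (hg p.1.2 p.1.1 p.2 _).trans (hsplit p.1.2 _ p.2 c)⟩
    rw [← hy]
    exact ConcreteCategory.congr_hom (congrArg (fun φ => Scheme.Modules.Hom.app φ p.1.1.1) hab) y⟩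
  let S := ShortComplex.mk (kernel.ι g) g (kernel.condition g)
  have hS : S.ShortExact := { exact := S.exact_of_f_is_kernel (kernelIsKernel g) }
  let κ : ∀ W : XX.Opens, Γ(kernel g, W) →ₗ[Γ(XX, W)] Γ(EE n j, W) := fun W =>
    { toFun := fun x => (kernel.ι g).app W x
      map_add' := map_add ((kernel.ι g).app W).hom
      map_smul' := fun c x => Scheme.Modules.Hom.app_smul (kernel.ι g) c x }
  have hκ0 : ∀ (i : Fin (n + 1)) (W : XX.affineOpens) (h : W.1 ≤ U n j i) (x : Γ(kernel g, W.1)),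
      evL n j i h (κ W.1 x) = 0 := fun i W h x =>
    (hg i W h _).symm.trans (QCoh.app_comp_zero (S := S) W.1 x)
  obtain ⟨θ, hθ⟩ := AffHom.exists_hom_basis (M := kernel g) (N := Omega.sheaf π) (isBasis_IW n π j H)
    (fun p => (psL n π j p.1.2 p.2).comp (κ p.1.1.1)) (fun p q hqp x => by
      show mres (Omega.sheaf π) hqp (psL n π j p.1.2 p.2 (κ _ x)) = psL n π j q.1.2 q.2 (κ _ (mres (kernel g) hqp x))
      rw [show κ q.1.1.1 (mres (kernel g) hqp x) = mres (EE n j) hqp (κ p.1.1.1 x) from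
        (InvExt.mres_app (kernel.ι g) hqp x).symm]
      rw [psL_change n π j q.1.2 p.1.2 q.2 (hqp.trans p.2) _ (by
        rw [evL_apply]
        have h0 := congrArg (fres XX hqp) (hκ0 p.1.2 p.1.1 p.2 x)
        rw [fres_zero, evL_apply, fres_sum] at h0
        refine Eq.trans (Finset.sum_congr rfl fun l _ => ?_) h0
        rw [fres_mul, co_mres n j p.1.2 p.2 hqp, InvExt.fres_fres]), psL_apply, psL_apply, mres_sum]
      exact Finset.sum_congr rfl fun l _ => by
        rw [InvExt.mres_smul, co_mres n j p.1.2 p.2 hqp, Adj27.mres_dd, InvExt.fres_fres])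
  haveI : (Omega.sheaf π).IsQuasicoherent := OmegaSheaf.isQuasicoherent_sheaf π
  haveI : (kernel g).IsQuasicoherent := by
    haveI : (EE n j).IsQuasicoherent :=
      (Euler.isCoh_of_isFinLocFree (OX.isFinLocFree_tensor (FinCov.isFinLocFree_of_rank (fun x =>
        ⟨⊤, trivial, ⟨(Scheme.Modules.restrictFunctorIsoPullback (⊤ : XX.Opens).ι).app _ ≪≫ OX.pullFreeModIso _ _⟩⟩))
        (Euler.isFinLocFree_of_isInvertible ((cocNeg n j).isInvertible_twist 1)))).1
    haveI : (Coh.structureModule XX).IsQuasicoherent :=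
      (Euler.isCoh_of_isFinLocFree (Euler.isFinLocFree_of_isInvertible Euler.isInvertible_structure)).1
    exact QCoh.isQuasicoherent_kernel g
  haveI : IsIso θ := by
    refine QCoh.isIso_of_bijective_on_cover θ
      (fun p : Fin (n + 1) × Y.affineOpens => U n j p.1 ⊓ π ⁻¹ᵁ p.2.1)
      (top_le_iff.1 fun x _ => by
        obtain ⟨i, V, hV, hx⟩ := exists_chart_mem n π j H x
        exact Opens.mem_iSup.2 ⟨(i, ⟨V, hV⟩), hx⟩)
      (fun p => isAffineOpen_chart n π j H p.1 p.2.2) fun ⟨i, V⟩ => ?_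
    let W : XX.affineOpens := ⟨U n j i ⊓ π ⁻¹ᵁ V.1, isAffineOpen_chart n π j H i V.2⟩
    have hW : W.1 ≤ U n j i := inf_le_left
    have hfr := (isFrame_chart n π j H i V.2) W.1 le_rfl
    have hval : ∀ x, θ.app W.1 x = psL n π j i hW (κ W.1 x) := fun x => hθ ⟨(W, i), hW⟩ x
    have hsum : ∀ c : Fin (n + 1) → Γ(XX, W.1), ∑ l, c l • Adj27.dd π W.1 (fres XX hW (t n j i l)) =
        ∑ l : Fin n, c (i.succAbove l) •
          mres (Omega.sheaf π) (le_refl W.1) (Adj27.dd π W.1 (fres XX hW (t n j i (i.succAbove l)))) := fun c => by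
      rw [Fin.sum_univ_succAbove _ i, t_self, fres_one, dd_one, smul_zero, zero_add]
      simp only [InvExt.mres_self]
    refine ⟨fun x y hxy => QCoh.app_injective hS W.1 ((co n j i hW).injective ?_), fun z => ?_⟩
    · have h1 := (hval x).symm.trans (hxy.trans (hval y))
      rw [psL_apply, psL_apply, hsum, hsum] at h1
      have h2 := hfr.1 h1
      refine funext fun l => ?_
      rcases Fin.eq_self_or_eq_succAbove i l with rfl | ⟨l', rfl⟩
      · have hx0 := hκ0 l W hW x
        have hy0 := hκ0 l W hW y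
        rw [evL_apply, Fin.sum_univ_succAbove _ l, t_self, fres_one, mul_one, add_eq_zero_iff_eq_neg] at hx0 hy0
        show co n j l hW (κ W.1 x) l = co n j l hW (κ W.1 y) l
        rw [hx0, hy0]
        congr 1
        exact Finset.sum_congr rfl fun m _ => congrArg (· * _) (congrFun h2 m)
      · exact congrFun h2 l'
    · obtain ⟨c, hc⟩ := hfr.2 z
      let c' : Fin (n + 1) → Γ(XX, W.1) :=
        Fin.insertNth i (-∑ l, c l * fres XX hW (t n j i (i.succAbove l))) c
      obtain ⟨x, hx⟩ := QCoh.app_exact hS W.1 ((co n j i hW).symm c') (by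
        refine (hg i W hW _).trans ?_
        rw [evL_apply, LinearEquiv.apply_symm_apply, Fin.sum_univ_succAbove _ i, t_self, fres_one, mul_one]
        simp [c'])
      refine ⟨x, ?_⟩
      rw [hval, show κ W.1 x = (co n j i hW).symm c' from hx, psL_apply, LinearEquiv.apply_symm_apply, hsum, ← hc]
      exact Finset.sum_congr rfl fun l _ => by simp [c']; rfl
  refine ⟨inv θ ≫ kernel.ι g, g, by rw [Category.assoc, kernel.condition, comp_zero], ?_⟩
  exact ShortComplex.shortExact_of_iso (ShortComplex.isoMk (S₁ := S)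
    (S₂ := ShortComplex.mk (inv θ ≫ kernel.ι g) g (by rw [Category.assoc, kernel.condition, comp_zero]))
    (asIso θ) (Iso.refl _) (Iso.refl _) (by simp [S]) (by simp [S])) hS

end GrothLib.OmegaPn27
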