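import Groth.Agent.Lib.OmegaPn27.Chart
import Groth.Agent.Lib.ExtPowX.Basic
import Groth.Agent.Lib.Adj27.SmoothExt
import Groth.Agent.Lib.GrTilde.NegTwist

/-!
# The canonical module of relative projective space
-/

set_option autoImplicit false
set_option maxHeartbeats 1600000
set_option linter.style.haveILetI false
set_option backward.isDefEq.respectTransparency false

universe u

open CategoryTheory CategoryTheory.Limits AlgebraicGeometry Opposite TopologicalSpace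
open GrothLib.InvExt (mres fres IsGen)
open GrothLib.FinCov (IsFrame)
open GrothLib.ExtPowX (wedge eta)

noncomputable section

namespace GrothLib.OmegaPn27

variable (n : ℕ) {XX Y : Scheme.{u}} (π : XX ⟶ Y) (j : XX ⟶ CohB1.ProjSpace n ZU.{u})
  (H : IsPullback j π (CohB1.ProjSpace.toSpec n ZU.{u}) (specULiftZIsTerminal.from Y)) [QuasiSeparated π]


include H in
theorem exists_chart_mem (x : XX) :
    ∃ (i : Fin (n + 1)) (V : Y.Opens), IsAffineOpen V ∧
      x ∈ U n j i ⊓ π ⁻¹ᵁ V := by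
  obtain ⟨i, hi⟩ := Opens.mem_iSup.1 ((iSup_U n j).ge (trivial : x ∈ (⊤ : XX.Opens)))
  obtain ⟨V, hV, hxV, -⟩ := exists_isAffineOpen_mem_and_subset
    (x := π x) (U := (⊤ : Y.Opens)) trivial
  exact ⟨i, V, hV, hi, hxV⟩

include H in
theorem isFinLocFree_sheaf : FlatMod.IsFinLocFree (Omega.sheaf π) :=
  Adj27.isFinLocFree_of_frames fun x => by
    obtain ⟨i, V, hV, hx⟩ := exists_chart_mem n π j H x
    exact ⟨_, n, _, hx, isFrame_chart n π j H i hV⟩

/-- The vectors on a chart. -/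
def vec (i l : Fin (n + 1)) :
    Γ(XX, U n j i) × Γ(Omega.sheaf π, U n j i) :=
  (t n j i l, Adj27.dd π (U n j i) (t n j i l))

theorem dd_one {W : XX.Opens} :
    Adj27.dd π W (1 : Γ(XX, W)) = 0 := by
  have h := OmegaSh.dSect_mul π W 1 1
  rw [one_mul, one_smul] at h
  exact left_eq_add.1 h

theorem vec_self (i : Fin (n + 1)) : vec n π j i i = (1, 0) := by
  rw [vec, t_self, dd_one]

/-- The form on a chart. -/
def form (i : Fin (n + 1)) : Γ(wedge (Omega.sheaf π) n, U n j i) :=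
  eta _ n (U n j i) (wF _ _ n (vec n π j i))

theorem mres_form (i : Fin (n + 1)) {W : XX.Opens} (hi : W ≤ U n j i) :
    mres _ hi (form n π j i) = eta (Omega.sheaf π) n W
      (wF Γ(XX, W) Γ(Omega.sheaf π, W) n fun l =>
        (fres XX hi (t n j i l), Adj27.dd π W (fres XX hi (t n j i l)))) := by
  rw [form, ExtPowX.mres_eta, wF_eq _ i (vec_self n π j i), wF_eq _ i (by rw [t_self]; simp [dd_one]),
    map_zsmul, ExtPowX.wRes_ιMulti]
  congr 3
  funext l
  exact Adj27.mres_dd _ hi _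

include H in
theorem isGen_form (i : Fin (n + 1)) :
    IsGen (wedge (Omega.sheaf π) n) (U n j i) (form n π j i) := by
  refine InvExt.isGen_of_cover (fun V : Y.affineOpens => U n j i ⊓ π ⁻¹ᵁ V.1)
    (fun V => inf_le_left) (fun x hx => ?_) fun V => ?_
  · obtain ⟨V, hV, hxV, -⟩ := exists_isAffineOpen_mem_and_subset
      (x := π x) (U := (⊤ : Y.Opens)) trivial
    exact Opens.mem_iSup.2 ⟨⟨V, hV⟩, hx, hxV⟩
  have hE := isFinLocFree_sheaf n π j H
  let W : XX.Opens := U n j i ⊓ π ⁻¹ᵁ V.1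
  let φ : ∀ T : XX.affineOpens,
      Γ(wedge (Omega.sheaf π) n, T.1) ≃ₗ[Γ(XX, T.1)]
        ↥(⋀[Γ(XX, T.1)]^n Γ(Omega.sheaf π, T.1)) :=
    fun T => (LinearEquiv.ofBijective _ (ExtPowX.bijective_eta_affine hE n T.2)).symm
  have hW : IsAffineOpen W := isAffineOpen_chart n π j H i V.2
  have hg := TensorGen.isGen_wedge (φ := φ) (fun T T' h e => (ExtPowX.mres_eta _ n h _).trans
    (congrArg _ (ExtPowX.wRes_ιMulti _ n h e))) (U := ⟨W, hW⟩) (isFrame_chart n π j H i V.2)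
  have hu : IsUnit (((-1) ^ (i : ℕ) : ℤ) : Γ(XX, W)) := by
    simp [isUnit_one.neg.pow]
  have h1 := hg.smul_unit hu
  show IsGen _ W _
  convert h1 using 1
  rw [mres_form, wF_eq _ i (by rw [t_self]; simp [dd_one]), Int.cast_smul_eq_zsmul, map_zsmul]
  rfl

theorem mres_form_change (i k : Fin (n + 1)) {W : XX.Opens} (hi : W ≤ U n j i)
    (hk : W ≤ U n j k) :
    mres _ hk (form n π j k) = fres XX hk (t n j k i) ^ (n + 1) • mres _ hi (form n π j i) := by
  rw [mres_form, mres_form, ← map_smul]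
  refine congrArg _ (wF_change _ _ _ (fres XX hi (t n j i k) •
    Adj27.dd π W (fres XX hk (t n j k i))) i (by rw [t_self]; simp [dd_one])
    fun l => ?_)
  have hm := t_mul n j i k l hi hk
  refine Prod.ext ?_ ?_
  · simp [hm]
  · show Adj27.dd _ W _ = _ • (_ + _ • _)
    rw [hm, Adj27.dd, OmegaSh.dSect_mul, smul_add, smul_smul, smul_smul]
    congr 1
    show _ = (_ * _ * fres XX hi (t n j i k)) • _
    rw [mul_comm (fres XX hk (t n j k i)), mul_assoc, t_inv n j hi hk, mul_one]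

/-- The cocycle of `O(-1)`. -/
abbrev cocNeg : Ample.Cocycle XX :=
  (Ample.ProjMap.pcoc n ZU.{u}).inv.comap j

theorem cocNeg_G (i k : Fin (n + 1)) {W : XX.Opens} (hi : W ≤ U n j i) (hk : W ≤ U n j k) :
    (cocNeg n j).G ⟨i⟩ ⟨k⟩ hi hk = (coc n j).G ⟨k⟩ ⟨i⟩ hk hi := by
  let P := Ample.ProjMap.pcoc n ZU.{u}
  have h := P.inv.appLE_G (j := j) ⟨i⟩ ⟨k⟩ (V := P.D ⟨i⟩ ⊓ P.D ⟨k⟩) inf_le_left inf_le_right
    (W := W) (le_inf hi hk)
  refine h.symm.trans ?_
  rw [Ample.Cocycle.inv_G]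
  exact P.appLE_G (j := j) ⟨k⟩ ⟨i⟩ inf_le_right inf_le_left (le_inf hi hk)

include H in
theorem nonempty_wedge_iso :
    Nonempty (wedge (Omega.sheaf π) n ≅ (Scheme.Modules.pullback j).obj (Twist.twistProjSpace n ZU.{u} (-(n : ℤ) - 1))) := by
  let P := Ample.ProjMap.pcoc n ZU.{u}
  let m : ∀ a : (cocNeg n j).ι, Γ(wedge (Omega.sheaf π) n, (cocNeg n j).D a) :=
    fun a => form n π j a.down
  have hfam : (cocNeg n j).IsFamily (n + 1) m := by
    rintro ⟨i⟩ ⟨k⟩ W hi hk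
    rw [cocNeg_G n j i k hi hk, G_eq]
    exact mres_form_change n π j i k hi hk
  haveI := (cocNeg n j).isIso_homOfFamily hfam fun a => isGen_form n π j H a.down
  obtain ⟨φ⟩ := GrTilde.nonempty_inv_twist_iso (CohB1.polyGrading n ZU.{u})
    (fun i : ULift.{u} (Fin (n + 1)) => MvPolynomial.X i.down)
    (fun i => Ample.ProjMap.X_mem i.down) P.cover (n + 1)
  obtain ⟨ψ⟩ := P.inv.nonempty_pullback_iso j (n := n + 1) φ.symm
  rw [show (-(n : ℤ) - 1) = -((n + 1 : ℕ) : ℤ) by push_cast; ring]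
  exact ⟨(asIso ((cocNeg n j).homOfFamily hfam)).symm ≪≫ ψ.symm⟩

include H in
theorem nonempty_iso {L : XX.Modules}
    (hL : ExtPow.IsExtPow n (Omega.sheaf π) L) :
    Nonempty (L ≅ (Scheme.Modules.pullback j).obj (Twist.twistProjSpace n ZU.{u} (-(n : ℤ) - 1))) := by
  obtain ⟨α⟩ := ExtPowX.nonempty_iso hL (ExtPowX.isExtPow_wedge (isFinLocFree_sheaf n π j H) n) (Iso.refl _)
  obtain ⟨β⟩ := nonempty_wedge_iso n π j H
  exact ⟨α ≪≫ β⟩

end GrothLib.OmegaPn27
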